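import Cfsg.Agent.McLModel.Checks
import Cfsg.Agent.McLModel.TestY
import Cfsg.Agent.Leech.PairSimple
import Cfsg.Agent.Leech.Stab.PointStab
import Cfsg.Prelude.Def_Spor_Conway

/-!
The McLaughlin group as a permutation group on 275 vectors, and its outer automorphism group.
-/

set_option autoImplicit false
set_option maxRecDepth 8000
set_option Elab.async false

namespace Cfsg.Lib.McLModel

open Cfsg Cfsg.Lib.CosetCert Cfsg.Lib.CosetCert.OutCert Cfsg.Lib.Leech Cfsg.Lib.Leech.Stab Cfsg.Lib.Golay MulAction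
open Cfsg.Lib.Leech.Mult (el el_smul short_of_check)

theorem valid_data : data.Valid where
  prime := by show Nat.Prime 11; norm_num
  static := static_ok
  local_ := local_ok
  testU r hr := List.all_eq_true.1 testU_all r (List.mem_range.2 hr)
  testY r₁ h₁ r₂ _ h := by
    rw [← h rfl]
    exact testY_all h₁

theorem key_short (i : Fin 275) : Short (key i.val) := by
  have h := List.all_eq_true.1 keys_short i.val (List.mem_range.2 i.isLt)
  simp only [Bool.and_eq_true, decide_eq_true_eq] at h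
  exact ⟨mem_of_inL h.1.1, h.1.2.le.trans (by norm_num)⟩

/-- The vector of an index. -/
noncomputable def vec (i : Fin 275) : leechLattice := ⟨dec (key i.val), (key_short i).1⟩

theorem vec_mem (i : Fin 275) : vec i ∈ pts275 := by
  have h := List.all_eq_true.1 keys_short i.val (List.mem_range.2 i.isLt)
  have h' := List.all_eq_true.1 keys_dots i.val (List.mem_range.2 i.isLt)
  simp only [Bool.and_eq_true, decide_eq_true_eq, beq_iff_eq] at h h'
  refine ⟨h.1.2, ?_, ?_⟩
  · rw [← dec_kD]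
    exact (dotK_eq kD (key i.val)).symm.trans h'.1
  · rw [← dec_kP]
    exact (dotK_eq kP (key i.val)).symm.trans h'.2

theorem vec_inj : Function.Injective vec := by
  intro i j h
  have e : key i.val = key j.val := by
    have hb : ∀ i : Fin 275, key i.val < 2 ^ 120 := fun i => by
      have h := List.all_eq_true.1 keys_short i.val (List.mem_range.2 i.isLt)
      simp only [Bool.and_eq_true] at h
      exact Nat.le_of_ble_eq_true h.2
    exact key_ext (hb i) (hb j) (congrArg Subtype.val h)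
  by_contra hne
  have key' : ∀ a b : Fin 275, b.val < a.val → key a.val = key b.val → False := fun a b hlt e =>
    bne_iff_ne.1 (List.all_eq_true.1 (List.all_eq_true.1 keys_distinct a.val (List.mem_range.2 a.isLt)) b.val
      (List.mem_range.2 hlt)) e
  rcases lt_trichotomy i.val j.val with h1 | h1 | h1
  · exact key' j i h1 e.symm
  · exact hne (Fin.ext h1)
  · exact key' i j h1 e

/-- Indices and vectors. -/
noncomputable def vEquiv : Fin 275 ≃ pts275 := by
  refine Equiv.ofBijective (fun i => ⟨vec i, vec_mem i⟩) ?_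
  haveI : Finite pts275 := Set.finite_of_ncard_ne_zero (by rw [pts275_card]; norm_num)
  refine (Nat.bijective_iff_injective_and_card _).2 ⟨fun i j h => vec_inj (congrArg Subtype.val h), ?_⟩
  rw [Nat.card_coe_set_eq, pts275_card, Nat.card_fin]

/-- The stabiliser of the base pair. -/
abbrev mclGrp : Subgroup Co0 := stabilizer Co0 bD ⊓ stabilizer Co0 bP

theorem pts_smul (g : mclGrp) {x : leechLattice} (hx : x ∈ pts275) : (g : Co0) • x ∈ pts275 := by
  obtain ⟨h1, h2, h3⟩ := hx
  have e1 := dot_smul (g : Co0) bD x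
  have e2 := dot_smul (g : Co0) bP x
  rw [show (g : Co0) • bD = bD from g.2.1] at e1
  rw [show (g : Co0) • bP = bP from g.2.2] at e2
  exact ⟨((g : Co0).2.2 x).trans h1, e1.trans h2, e2.trans h3⟩

/-- The action on the indices. -/
noncomputable def phi : mclGrp →* Equiv.Perm (Fin 275) :=
  MonoidHom.mk' (fun g => (vEquiv.trans
    { toFun := fun x => ⟨(g : Co0) • x.1, pts_smul g x.2⟩
      invFun := fun x => ⟨((g⁻¹ : mclGrp) : Co0) • x.1, pts_smul _ x.2⟩
      left_inv := fun x => Subtype.ext (inv_smul_smul (g : Co0) x.1)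
      right_inv := fun x => Subtype.ext (smul_inv_smul (g : Co0) x.1) }).trans vEquiv.symm) fun g g' => by
    refine Equiv.ext fun x => ?_
    show vEquiv.symm ⟨_, _⟩ = vEquiv.symm ⟨(g : Co0) • (vEquiv (vEquiv.symm ⟨_, _⟩)).1, _⟩
    simp only [Equiv.apply_symm_apply]
    exact congrArg vEquiv.symm (Subtype.ext (mul_smul (g : Co0) (g' : Co0) (vEquiv x).1))

theorem phi_vec (g : mclGrp) (x : Fin 275) : vec (phi g x) = (g : Co0) • vec x :=
  congrArg Subtype.val (Equiv.apply_symm_apply vEquiv ⟨(g : Co0) • (vEquiv x).1, pts_smul g (vEquiv x).2⟩)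

theorem im_mem {l : ℕ} (hl : l < 4) : data.im l ∈ phi.range := by
  have h := List.all_eq_true.1 atoms_ok l (List.mem_range.2 hl)
  simp only [Bool.and_eq_true, beq_iff_eq] at h
  obtain ⟨⟨⟨hok, hD⟩, hP⟩, hmap⟩ := h
  have hfix : ∀ K, Short K → evalW (atomsOf l) K = K → ∀ (b : leechLattice), (b : GolayPt → ℤ) = dec K →
      el (atomsOf l) • b = b := fun K hK e b hb => by
    obtain ⟨h1, e1⟩ := el_smul hok hK
    obtain rfl : b = ⟨dec K, hK.1⟩ := Subtype.ext hb
    exact e1.trans (Subtype.ext (congrArg dec e))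
  let g : mclGrp := ⟨el (atomsOf l),
    mem_stabilizer_iff.2 (hfix kD short_base.1 hD bD dec_kD.symm),
    mem_stabilizer_iff.2 (hfix kP short_base.2.1 hP bP dec_kP.symm)⟩
  have hl' : l < data.xTabs.length := lt_of_lt_of_le hl (by show 4 ≤ 10; norm_num)
  refine ⟨g, Equiv.ext fun x => vec_inj ?_⟩
  rw [phi_vec]
  obtain ⟨h1, e1⟩ := el_smul hok (key_short x)
  refine e1.trans (Subtype.ext (congrArg dec ?_))
  exact (beq_iff_eq.1 (List.all_eq_true.1 hmap x.val (List.mem_range.2 x.isLt))).trans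
    (congrArg key (Cfsg.Lib.PermCert.perm_apply (valid_data.act l hl').1 (x : Fin data.n)).symm)

local instance finiteCo0Inst4 : Finite Co0 := finite_co0

theorem mclGrp_isMcL : IsMcL ↥mclGrp := by
  have hP : Cfsg.sqNorm (bP : GolayPt → ℤ) = 32 := pairVec_norm (by decide) (Or.inl rfl)
  have e : (bD - bP : leechLattice) = (⟨vD - (bP : GolayPt → ℤ), leechLattice.sub_mem (bD).2 (bP).2⟩ : leechLattice) := rfl
  have hd : Cfsg.sqNorm (((bD - bP : leechLattice)) : GolayPt → ℤ) = 32 ∧
      dotInt (((bD - bP : leechLattice)) : GolayPt → ℤ) bP = -8 := by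
    show Cfsg.sqNorm (vD - (bP : GolayPt → ℤ)) = 32 ∧ dotInt (vD - (bP : GolayPt → ℤ)) bP = -8
    decide +kernel
  have heq : stabilizer Co0 (bD - bP) ⊓ stabilizer Co0 bP = mclGrp := Subgroup.ext fun g => by
    let F : leechLattice →+ leechLattice := AddMonoidHom.mk' (fun v => (g : Equiv.Perm leechLattice) v) g.2.1
    show F (bD - bP) = bD - bP ∧ F bP = bP ↔ F bD = bD ∧ F bP = bP
    rw [map_sub]
    exact ⟨fun h => ⟨by rw [h.2] at h; exact sub_left_inj.1 h.1, h.2⟩, fun h => ⟨by rw [h.1, h.2], h.2⟩⟩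
  rw [← heq]
  exact isMcL_pair hd.1 hP hd.2

theorem phi_injective : Function.Injective phi := by
  haveI : IsSimpleGroup mclGrp := mclGrp_isMcL.1
  rcases (inferInstance : phi.ker.Normal).eq_bot_or_eq_top with h | h
  · exact (MonoidHom.ker_eq_bot_iff phi).mp h
  · exfalso
    obtain ⟨i, hi, hmv⟩ := List.any_eq_true.1 letter_moves
    rw [List.mem_range] at hi
    obtain ⟨g, hg⟩ := im_mem (show (0 : ℕ) < 4 by norm_num)
    have h1 : data.im 0 = 1 := by rw [← hg]; exact MonoidHom.mem_ker.1 (h ▸ Subgroup.mem_top g)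
    have hi' : i < data.n := hi
    have h2 : (data.im 0 ⟨i, hi'⟩).val = i := by
      rw [h1]
      rfl
    exact bne_iff_ne.1 hmv ((Cfsg.Lib.PermCert.perm_apply (valid_data.act 0
      (show 0 < data.xTabs.length by show 0 < 10; norm_num)).1 ⟨i, hi'⟩).symm.trans h2)

theorem grp_eq : data.grp = phi.range ∧ Nat.card data.grp = 898128000 := by
  have hle : data.grp ≤ phi.range := (Subgroup.closure_le _).2 (by
    rintro _ ⟨l, hl, rfl⟩
    exact im_mem hl)
  have hc : Nat.card phi.range = 898128000 := by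
    rw [← Nat.card_congr (MonoidHom.ofInjective phi_injective).toEquiv]
    exact mclGrp_isMcL.2
  have heq : data.grp = phi.range := Subgroup.eq_of_le_of_card_ge hle (hc ▸ valid_data.card_ge)
  exact ⟨heq, heq ▸ hc⟩

theorem exists_equiv : Nonempty (↥Cfsg.Spor.McL ≃* ↥data.grp) := by
  have hd : Cfsg.sqNorm (((-Cfsg.Spor.leechV : leechLattice)) : GolayPt → ℤ) = 48 ∧
      Cfsg.sqNorm ((Cfsg.Spor.leechU : leechLattice) : GolayPt → ℤ) = 32 ∧
      dotInt (((-Cfsg.Spor.leechV : leechLattice)) : GolayPt → ℤ) Cfsg.Spor.leechU = 24 := by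
    show Cfsg.sqNorm (-Cfsg.Spor.vecV) = 48 ∧ Cfsg.sqNorm Cfsg.Spor.vecU = 32 ∧
      dotInt (-Cfsg.Spor.vecV) Cfsg.Spor.vecU = 24
    decide +kernel
  obtain ⟨c, h1, h2⟩ := to_DP _ _ hd.1 hd.2.1 hd.2.2
  have key : ∀ g : Co0, g ∈ stabilizer Co0 (-Cfsg.Spor.leechV : leechLattice) ⊓ stabilizer Co0 Cfsg.Spor.leechU ↔
      (g : Equiv.Perm leechLattice) ∈ Cfsg.Spor.McL := fun g => by
    let F : leechLattice →+ leechLattice := AddMonoidHom.mk' (fun v => (g : Equiv.Perm leechLattice) v) g.2.1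
    rw [Cfsg.Spor.McL, Cfsg.Spor.Co3, Subgroup.mem_inf, Subgroup.mem_inf, Subgroup.mem_inf, mem_stabilizer_iff,
      mem_stabilizer_iff, mem_stabilizer_iff, mem_stabilizer_iff]
    show F (-Cfsg.Spor.leechV) = -Cfsg.Spor.leechV ∧ F Cfsg.Spor.leechU = Cfsg.Spor.leechU ↔
      ((g : Equiv.Perm leechLattice) ∈ Co0 ∧ F Cfsg.Spor.leechV = Cfsg.Spor.leechV) ∧
        F Cfsg.Spor.leechU = Cfsg.Spor.leechU
    rw [map_neg, neg_inj]
    exact ⟨fun h => ⟨⟨g.2, h.1⟩, h.2⟩, fun h => ⟨h.1.2, h.2⟩⟩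
  let e : ↥Cfsg.Spor.McL ≃* ↥(stabilizer Co0 (-Cfsg.Spor.leechV : leechLattice) ⊓ stabilizer Co0 Cfsg.Spor.leechU) :=
    { toFun := fun g => ⟨⟨g.1, (Subgroup.mem_inf.1 (Subgroup.mem_inf.1 g.2).1).1⟩, (key _).2 g.2⟩
      invFun := fun g => ⟨(g.1 : Equiv.Perm leechLattice), (key g.1).1 g.2⟩
      left_inv := fun _ => rfl
      right_inv := fun _ => rfl
      map_mul' := fun _ _ => rfl }
  exact ⟨((e.trans (pairConj c h1 h2)).trans (MonoidHom.ofInjective phi_injective)).trans
    (MulEquiv.subgroupCongr grp_eq.1.symm)⟩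

/-- The outer automorphism group of the McLaughlin group has order two. -/
theorem card_out : Nat.card (Cfsg.Out ↥Cfsg.Spor.McL) = 2 := by
  obtain ⟨e⟩ := exists_equiv
  rw [Nat.card_congr (outCongr e).toEquiv]
  exact valid_data.out_two grp_eq.2 rfl outer_ok

end Cfsg.Lib.McLModel
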