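import Cfsg.Agent.McLModel.Data
import Cfsg.Agent.Leech.Mult.Elem
import Cfsg.Agent.Leech.Stab.Data

/-!
Kernel checks for the McLaughlin group on 275 vectors.
-/

set_option autoImplicit false
set_option Elab.async false

namespace Cfsg.Lib.McLModel

open Cfsg Cfsg.Lib.CosetCert Cfsg.Lib.CosetCert.OutCert Cfsg.Lib.Leech Cfsg.Lib.Leech.Stab Cfsg.Lib.Golay

theorem static_ok : data.staticOK = true := by decide +kernel

theorem local_ok : data.localOK = true := by decide +kernel

theorem testU_all : (List.range 275).all data.testU = true := by decide +kernel

theorem outer_ok : data.outerOK 9 outerWords stabGens reach = true := by decide +kernel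

/-- The key of a vector of the list. -/
def key (i : ℕ) : ℕ := keys.getD i 0

theorem keys_short : ((List.range 275).all fun i => inL (dec (key i)) && decide (Cfsg.sqNorm (dec (key i)) = 32) &&
    Nat.blt (key i) (2 ^ 120)) = true := by decide +kernel

theorem keys_dots : ((List.range 275).all fun i => dotK kD (key i) == 24 && dotK kP (key i) == 16) = true := by
  decide +kernel

theorem keys_distinct : ((List.range 275).all fun i => (List.range i).all fun j => key i != key j) = true := by
  decide +kernel

/-- The atoms of a letter. -/
def atomsOf (l : ℕ) : List Atom := letAtoms.getD l []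

theorem atoms_ok : ((List.range 4).all fun l => (atomsOf l).all (·.ok) && (Stab.evalW (atomsOf l) kD == kD) &&
    (Stab.evalW (atomsOf l) kP == kP) && ((List.range 275).all fun i =>
      Stab.evalW (atomsOf l) (key i) == key (Cfsg.Lib.PermCert.ap (data.xTabs.getD l (0, 0)).1 i))) = true := by decide +kernel

theorem letter_moves : (List.range 275).any (fun i => Cfsg.Lib.PermCert.ap (data.xTabs.getD 0 (0, 0)).1 i != i) = true := by
  decide +kernel

end Cfsg.Lib.McLModel
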