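import Cfsg.Agent.McLModel.InvChecks
import Cfsg.Agent.McLModel.SylData

/-!
Kernel checks for a Sylow 2-subgroup of the McLaughlin group and its normaliser.
-/

set_option autoImplicit false
set_option Elab.async false

namespace Cfsg.Lib.McLModel.Inv

open Cfsg.Lib.CosetCert Cfsg.Lib.CosetCert.OutCert Cfsg.Lib.PermCert

/-- The image of a Sylow element on eight things. -/
def sImg (i : ℕ) : PP := sylImgs.getD i (0, 0)

/-- A word carries the bisections as its image says. -/
def carryW (w : List ℕ) (g : PP) : Bool :=
  fixPts.all fun a =>
    ((List.range 8).all fun i => (fld (evalW data.xTabs w a)).testBit (ap g.2 i) == (fld a).testBit i) ||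
    ((List.range 8).all fun i => (fld (evalW data.xTabs w a)).testBit (ap g.2 i) == !(fld a).testBit i)

/-- The forward values of a permutation of eight things. -/
def fw (g : PP) : List ℕ := (List.range 8).map (ap g.1)

/-- Two permutations of eight things commute. -/
def cmm (g h : PP) : Bool := (List.range 8).all fun x => ap g.1 (ap h.1 x) == ap h.1 (ap g.1 x)

/-- The candidate images of a permutation commuting with the central image. -/
def cand (a b c d : ℕ) : List ℕ :=
  [a, b, c, d, ap (sImg 110).1 b, ap (sImg 110).1 c, ap (sImg 110).1 a, ap (sImg 110).1 d]

/-- A tuple carries the image of a generator into the image of the subgroup. -/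
def normOne (f : List ℕ) (j : ℕ) : Bool :=
  (List.range 128).any fun k => (List.range 8).all fun x =>
    f.getD (ap (sImg (sylGenIx.getD j 0)).1 x) 8 == ap (sImg k).1 (f.getD x 8)

/-- A tuple is an image, or an image times the odd permutation. -/
def known (f : List ℕ) : Bool :=
  (List.range 128).any fun k =>
    f == fw (sImg k) || f == (List.range 8).map fun x => ap (sImg k).1 (ap oddU.1 x)

/-- Every candidate tuple normalising the image is known. -/
def normChk (a : ℕ) : Bool :=
  (List.range 8).all fun b => (List.range 8).all fun c => (List.range 8).all fun d =>
    !((List.range 8).all fun x => (cand a b c d).contains x) ||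
    !((List.range 5).all fun j => normOne (cand a b c d) j) || known (cand a b c d)

theorem sylGen_ix : sylGens.length = 5 ∧ ((List.range 5).all fun j =>
    Nat.blt (sylGenIx.getD j 0) 128 && same5 (sylGens.getD j []) (sylWords.getD (sylGenIx.getD j 0) [])) = true ∧
    same5 (sylWords.getD 1 []) [0] = true := by decide +kernel

theorem syl_central : ((List.range 128).all fun i =>
    (Nat.blt i 2) || !((List.range 5).all fun j =>
      same5 (sylWords.getD i [] ++ sylGens.getD j []) (sylGens.getD j [] ++ sylWords.getD i []))) = true ∧
    ((List.range 5).all fun j =>
      same5 (sylGens.getD j [] ++ [0]) ([0] ++ sylGens.getD j [])) = true := by decide +kernel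

theorem sylGen_invol : ((List.range 5).all fun j =>
    ((sylGenInv.getD j []).all fun k => Nat.blt k 128 && same5 (sylWords.getD k [] ++ sylWords.getD k []) []) &&
      same5 (sylGens.getD j []) ((sylGenInv.getD j []).flatMap fun k => sylWords.getD k [])) = true := by
  decide +kernel

theorem sylImgs_valid : ((List.range 128).all fun i => valid 8 (sImg i)) = true ∧ valid 8 oddU = true := by
  decide +kernel

theorem sylImgs_carry : ((List.range 128).all fun i => carryW (sylWords.getD i []) (sImg i)) = true := by
  decide +kernel

theorem sylImgs_centre : ((List.range 128).all fun i => cmm (sImg 110) (sImg i)) = true ∧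
    ((List.range 128).all fun k => fw (sImg k) == List.range 8 || fw (sImg k) == fw (sImg 110) ||
      !((List.range 5).all fun j => cmm (sImg k) (sImg (sylGenIx.getD j 0)))) = true ∧
    (fw (sImg 110) == List.range 8) = false ∧ fw (sImg 110) = [6, 4, 5, 7, 1, 2, 0, 3] := by decide +kernel

theorem oddU_sign : Equiv.Perm.sign (perm 8 oddU) = -1 := by decide +kernel

theorem norm_chk_low : (((List.range 4).all normChk) = true) := by decide +kernel

theorem norm_chk_high : (((List.range' 4 4).all normChk) = true) := by decide +kernel

end Cfsg.Lib.McLModel.Inv
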