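import Cfsg.Agent.McLModel.Invol
import Cfsg.Agent.McLModel.SylChecks
import Cfsg.Agent.Fusion.SelfNormalizingSylow

/-!
A Sylow 2-subgroup of the McLaughlin group is self-normalising, and the 2-fusion system is simple.
-/

set_option autoImplicit false
set_option maxRecDepth 8000

namespace Cfsg.Lib.McLModel.Inv

open Cfsg Cfsg.Lib.CosetCert Cfsg.Lib.CosetCert.OutCert Cfsg.Lib.PermCert

theorem sylG_ix {j : ℕ} (hj : j < 5) : sylGenIx.getD j 0 < 128 ∧ sylG j = syl (sylGenIx.getD j 0) := by
  have h := List.all_eq_true.1 sylGen_ix.2.1 j (List.mem_range.2 hj)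
  rw [Bool.and_eq_true] at h
  exact ⟨Nat.le_of_ble_eq_true h.1, Subtype.ext (same5_sound h.2)⟩

theorem sylGrp_le {H : Subgroup data.grp} (h : ∀ j < 5, sylG j ∈ H) : sylGrp ≤ H :=
  (Subgroup.closure_le _).2 (by
    rintro _ ⟨j, hj, rfl⟩
    exact h j (sylGen_ix.1 ▸ hj))

theorem sylG_mem {j : ℕ} (hj : j < 5) : sylG j ∈ sylGrp :=
  Subgroup.subset_closure ⟨j, sylGen_ix.1.symm ▸ hj, rfl⟩

theorem syl_one : syl 1 = tG := Subtype.ext (by
  show wval data.im (sylWords.getD 1 []) = tPerm
  rw [same5_sound sylGen_ix.2.2, Data.wval_one]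
  rfl)

theorem tG_mem : tG ∈ sylGrp := syl_one ▸ syl_mem 1 (by norm_num)

theorem tG_ne : tG ≠ 1 := fun e => tPerm_ne (congrArg Subtype.val e)

theorem syl_center {x : data.grp} (hx : x ∈ sylGrp) (h : ∀ q ∈ sylGrp, Commute x q) : x = 1 ∨ x = tG := by
  obtain ⟨i, hi, rfl⟩ := syl_exhaust hx
  have hc := List.all_eq_true.1 syl_central.1 i (List.mem_range.2 hi)
  have hall : ((List.range 5).all fun j =>
      same5 (sylWords.getD i [] ++ sylGens.getD j []) (sylGens.getD j [] ++ sylWords.getD i [])) = true := by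
    refine List.all_eq_true.2 fun j hj => ?_
    refine same5_of_eq (low_app (sylWord_low i) (sylGen_low j)) (low_app (sylGen_low j) (sylWord_low i)) ?_
    rw [Data.wval_app, Data.wval_app]
    exact congrArg Subtype.val (h _ (sylG_mem (List.mem_range.1 hj))).eq
  rw [hall, Bool.not_true, Bool.or_false] at hc
  obtain rfl | rfl : i = 0 ∨ i = 1 := by have := Nat.le_of_ble_eq_true hc; omega
  · exact Or.inl syl_zero
  · exact Or.inr syl_one

theorem sylGrp_cent {x : data.grp} (hx : x ∈ sylGrp) : x * tG = tG * x := by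
  have hle : sylGrp ≤ Subgroup.centralizer ({tG} : Set data.grp) := sylGrp_le fun j hj => by
    have h := same5_sound (List.all_eq_true.1 syl_central.2 j (List.mem_range.2 hj))
    rw [Data.wval_app, Data.wval_app, Data.wval_one] at h
    exact Subgroup.mem_centralizer_singleton_iff.2 (Subtype.ext h)
  exact Subgroup.mem_centralizer_singleton_iff.1 (hle hx)

theorem sylGrp_invol : sylGrp ≤ Subgroup.closure {x | x ∈ sylGrp ∧ x * x = 1} := by
  refine sylGrp_le fun j hj => ?_
  have h := List.all_eq_true.1 sylGen_invol j (List.mem_range.2 hj)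
  rw [Bool.and_eq_true] at h
  obtain ⟨hk, hs⟩ := h
  have e : sylG j = ((sylGenInv.getD j []).map syl).prod := Subtype.ext (by
    show wval data.im (sylGens.getD j []) = _
    rw [same5_sound hs]
    generalize sylGenInv.getD j [] = l
    induction l with
    | nil => simp [Data.wval_nil']
    | cons a l ih =>
      rw [List.flatMap_cons, Data.wval_app, ih, List.map_cons, List.prod_cons, Subgroup.coe_mul]
      rfl)
  rw [e]
  refine list_prod_mem fun g hg => ?_
  obtain ⟨k, hkm, rfl⟩ := List.mem_map.1 hg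
  have hk' := List.all_eq_true.1 hk k hkm
  rw [Bool.and_eq_true] at hk'
  refine Subgroup.subset_closure ⟨syl_mem k (Nat.le_of_ble_eq_true hk'.1), Subtype.ext ?_⟩
  have := same5_sound hk'.2
  rwa [Data.wval_app, Data.wval_nil'] at this

/-- An element of the Sylow subgroup in the centraliser of the involution. -/
def sylC (i : ℕ) (hi : i < 128) : centP :=
  ⟨(syl i).1, mem_centP.2 ⟨(syl i).2, congrArg Subtype.val (sylGrp_cent (syl_mem i hi))⟩⟩

theorem sImg_valid {i : ℕ} (hi : i < 128) : valid 8 (sImg i) = true :=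
  List.all_eq_true.1 sylImgs_valid.1 i (List.mem_range.2 hi)

/-- The image of a Sylow element as a permutation. -/
def sP (i : ℕ) : Equiv.Perm (Fin 8) := perm 8 (sImg i)

theorem good_of_carry {w : List ℕ} {g : PP} (hw : Data.isLow w = true) (hv : valid 8 g = true)
    (hc : carryW w g = true) : Good (wval data.im w) (perm 8 g) := by
  intro i j a ha
  have hc := List.all_eq_true.1 hc a.val (fix_mem ha)
  have hsig : ∀ i : Fin 8, ((perm 8 g)⁻¹ i).val = ap g.2 i.val := fun i => by
    rw [perm, dif_pos hv]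
    rfl
  rw [same, same, hsig, hsig, valid_data.evalX (low_word hw).1]
  rw [Bool.or_eq_true] at hc
  rcases hc with hc | hc
  · rw [beq_iff_eq.1 (List.all_eq_true.1 hc i.val (List.mem_range.2 i.isLt)),
      beq_iff_eq.1 (List.all_eq_true.1 hc j.val (List.mem_range.2 j.isLt))]
  · rw [beq_iff_eq.1 (List.all_eq_true.1 hc i.val (List.mem_range.2 i.isLt)),
      beq_iff_eq.1 (List.all_eq_true.1 hc j.val (List.mem_range.2 j.isLt))]
    cases (fld a.val).testBit i.val <;> cases (fld a.val).testBit j.val <;> rfl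

theorem act8_sylC {i : ℕ} (hi : i < 128) : act8 (sylC i hi) = sP i :=
  act8_eq (good_of_carry (sylWord_low i) (sImg_valid hi)
    (List.all_eq_true.1 sylImgs_carry i (List.mem_range.2 hi)))

theorem sP_val {i : ℕ} (hi : i < 128) (x : Fin 8) : (sP i x).val = ap (sImg i).1 x.val :=
  perm_apply (sImg_valid hi) x

theorem sP_fw {i : ℕ} (hi : i < 128) {σ : Equiv.Perm (Fin 8)}
    (h : ∀ x : Fin 8, (σ x).val = (fw (sImg i)).getD x.val 8) : σ = sP i := Equiv.ext fun x => Fin.ext (by
  rw [h x, sP_val hi, fw, List.getD_eq_getElem _ _ (by simp)]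
  simp)

theorem sP_commute {i k : ℕ} (hi : i < 128) (hk : k < 128) :
    cmm (sImg i) (sImg k) = true ↔ sP i * sP k = sP k * sP i := by
  simp only [cmm, List.all_eq_true, List.mem_range, beq_iff_eq]
  constructor
  · refine fun h => Equiv.ext fun x => Fin.ext ?_
    rw [Equiv.Perm.mul_apply, Equiv.Perm.mul_apply, sP_val hi, sP_val hk, sP_val hk, sP_val hi]
    exact h x.val x.isLt
  · intro h x hx
    have e := congrArg (fun p : Equiv.Perm (Fin 8) => (p ⟨x, hx⟩).val) h
    simpa only [Equiv.Perm.mul_apply, sP_val hi, sP_val hk] using e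

theorem z_apply : ∀ x : Fin 8, (sP 110 x).val = [6, 4, 5, 7, 1, 2, 0, 3].getD x.val 8 := fun x => by
  rw [sP_val (by norm_num), ← sylImgs_centre.2.2.2, fw, List.getD_eq_getElem _ _ (by simp)]
  simp

theorem ker_two {z : centP} (h : act8 z = 1) : z = 1 ∨ z = tC := by
  obtain ⟨-, hcard, ht⟩ := ker_eq
  obtain ⟨y, -, hy⟩ := (Nat.card_eq_two_iff' (1 : act8.ker)).1 hcard
  by_cases hz : z = 1
  · exact Or.inl hz
  refine Or.inr ?_
  have e1 := hy ⟨z, h⟩ fun e => hz (congrArg Subtype.val e)
  have e2 := hy ⟨tC, ht⟩ fun e => tPerm_ne (congrArg (fun q : act8.ker => (q.1 : Equiv.Perm (Fin data.n))) e)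
  exact congrArg Subtype.val (e1.trans e2.symm)

theorem conj_image {x : centP} {i k : ℕ} (hi : i < 128) (hk : k < 128)
    (h : x.1 * (syl i).1 * x.1⁻¹ = (syl k).1) : act8 x * sP i * (act8 x)⁻¹ = sP k := by
  rw [← act8_sylC hi, ← act8_sylC hk, ← map_inv, ← map_mul, ← map_mul]
  exact congrArg act8 (Subtype.ext h)

theorem normalizer_le : Subgroup.normalizer (sylGrp : Set data.grp) ≤ sylGrp := by
  intro x hx
  have conj_syl : ∀ i < 128, ∃ k < 128, x * syl i * x⁻¹ = syl k := fun i hi =>
    syl_exhaust ((Subgroup.mem_normalizer_iff.1 hx _).1 (syl_mem i hi))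
  have hxt : x * tG = tG * x := by
    have hm : x * tG * x⁻¹ ∈ sylGrp := (Subgroup.mem_normalizer_iff.1 hx _).1 tG_mem
    rcases syl_center hm fun q hq => by
      have hq' : x⁻¹ * q * x ∈ sylGrp := (Subgroup.mem_normalizer_iff.1 hx _).2 (by
        rw [show x * (x⁻¹ * q * x) * x⁻¹ = q by group]; exact hq)
      have hc := sylGrp_cent hq'
      show x * tG * x⁻¹ * q = q * (x * tG * x⁻¹)
      calc x * tG * x⁻¹ * q = x * (tG * (x⁻¹ * q * x)) * x⁻¹ := by group
        _ = x * (x⁻¹ * q * x * tG) * x⁻¹ := by rw [hc]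
        _ = _ := by group with e | e
    · exact absurd (conj_eq_one_iff.1 e) tG_ne
    · exact mul_inv_eq_iff_eq_mul.1 e
  let xc : centP := ⟨x.1, mem_centP.2 ⟨x.2, congrArg Subtype.val hxt⟩⟩
  set σ := act8 xc with hσ
  have himg : ∀ i < 128, ∃ k < 128, σ * sP i * σ⁻¹ = sP k := fun i hi => by
    obtain ⟨k, hk, e⟩ := conj_syl i hi
    exact ⟨k, hk, conj_image hi hk (congrArg Subtype.val e)⟩
  have hz : σ * sP 110 = sP 110 * σ := by
    obtain ⟨k, hk, e⟩ := himg 110 (by norm_num)
    have hcomm : ((List.range 5).all fun j => cmm (sImg k) (sImg (sylGenIx.getD j 0))) = true := by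
      refine List.all_eq_true.2 fun j hj => ?_
      obtain ⟨hg, ej⟩ := sylG_ix (List.mem_range.1 hj)
      obtain ⟨m, hm, em⟩ := syl_exhaust ((Subgroup.mem_normalizer_iff.1 hx (x⁻¹ * sylG j * x)).2 (by
        rw [show x * (x⁻¹ * sylG j * x) * x⁻¹ = sylG j by group]; exact sylG_mem (List.mem_range.1 hj)))
      have eg : σ * sP m * σ⁻¹ = sP (sylGenIx.getD j 0) := conj_image hm hg (by
        show x.1 * (syl m).1 * x.1⁻¹ = _
        rw [← ej, ← em]
        push_cast
        group)
      have hzm := (sP_commute (by norm_num) hm).1 (List.all_eq_true.1 sylImgs_centre.1 m (List.mem_range.2 hm))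
      rw [sP_commute hk hg, ← e, ← eg]
      calc σ * sP 110 * σ⁻¹ * (σ * sP m * σ⁻¹) = σ * (sP 110 * sP m) * σ⁻¹ := by group
        _ = σ * (sP m * sP 110) * σ⁻¹ := by rw [hzm]
        _ = _ := by group
    have hc := List.all_eq_true.1 sylImgs_centre.2.1 k (List.mem_range.2 hk)
    rw [hcomm, Bool.not_true, Bool.or_false, Bool.or_eq_true, beq_iff_eq, beq_iff_eq] at hc
    rcases hc with hc | hc
    · refine absurd ?_ (Bool.eq_false_iff.1 sylImgs_centre.2.2.1)
      have e1 : sP k = 1 := (sP_fw hk (σ := 1) fun y => by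
        rw [hc, List.getD_eq_getElem _ _ (by simp)]
        simp).symm
      rw [e1, conj_eq_one_iff] at e
      rw [beq_iff_eq, fw]
      refine List.ext_getElem (by simp) fun y h1 h2 => ?_
      simp only [List.length_range] at h2
      simp only [List.getElem_map, List.getElem_range]
      rw [← sP_val (by norm_num) ⟨y, h2⟩, e]
      rfl
    · have e1 : sP k = sP 110 := (sP_fw hk (σ := sP 110) fun y => by
        rw [hc, sP_val (by norm_num), fw, List.getD_eq_getElem _ _ (by simp)]
        simp).symm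
      rw [e1, mul_inv_eq_iff_eq_mul] at e
      exact e
  set f := cand (σ 0).val (σ 1).val (σ 2).val (σ 3).val with hf
  have hzv : ∀ y : Fin 8, (σ (sP 110 y)).val = ap (sImg 110).1 (σ y).val := fun y => by
    rw [← sP_val (by norm_num) (σ y), ← Equiv.Perm.mul_apply, hz, Equiv.Perm.mul_apply]
  have hfv : ∀ y : Fin 8, f.getD y.val 8 = (σ y).val := by
    intro y
    have hp : ∀ u v : Fin 8, [6, 4, 5, 7, 1, 2, 0, 3].getD u.val 8 = v.val → sP 110 u = v := fun u v h =>
      Fin.ext ((z_apply u).trans h)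
    have e4 := hzv 1
    have e5 := hzv 2
    have e6 := hzv 0
    have e7 := hzv 3
    rw [hp 1 4 rfl] at e4
    rw [hp 2 5 rfl] at e5
    rw [hp 0 6 rfl] at e6
    rw [hp 3 7 rfl] at e7
    fin_cases y <;> simp [hf, cand, e4, e5, e6, e7]
  have hperm : ((List.range 8).all fun y => f.contains y) = true := by
    refine List.all_eq_true.2 fun y hy => List.elem_eq_true_of_mem ?_
    rw [List.mem_range] at hy
    have hl : f.length = 8 := rfl
    have := hfv (σ⁻¹ ⟨y, hy⟩)
    rw [List.getD_eq_getElem _ _ (by omega)] at this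
    simp at this
    exact this ▸ List.getElem_mem _
  have hnorm : ((List.range 5).all fun j => normOne f j) = true := by
    refine List.all_eq_true.2 fun j hj => ?_
    obtain ⟨hg, -⟩ := sylG_ix (List.mem_range.1 hj)
    obtain ⟨k, hk, e⟩ := himg _ hg
    refine List.any_eq_true.2 ⟨k, List.mem_range.2 hk, List.all_eq_true.2 fun y hy => beq_iff_eq.2 ?_⟩
    have hy' := List.mem_range.1 hy
    rw [← sP_val hg ⟨y, hy'⟩, hfv, hfv ⟨y, hy'⟩, ← sP_val hk, ← Equiv.Perm.mul_apply,
      ← Equiv.Perm.mul_apply, mul_inv_eq_iff_eq_mul.1 e]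
  have hchk : normChk (σ 0).val = true := by
    rcases lt_or_ge (σ 0).val 4 with h | h
    · exact List.all_eq_true.1 norm_chk_low _ (List.mem_range.2 h)
    · exact List.all_eq_true.1 norm_chk_high _ (List.mem_range'_1.2 ⟨h, (σ 0).isLt⟩)
  have hk := List.all_eq_true.1 (List.all_eq_true.1 (List.all_eq_true.1 hchk (σ 1).val
    (List.mem_range.2 (Fin.isLt _))) (σ 2).val (List.mem_range.2 (Fin.isLt _))) (σ 3).val
    (List.mem_range.2 (Fin.isLt _))
  rw [← hf, hperm, hnorm, Bool.not_true, Bool.false_or, Bool.false_or] at hk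
  obtain ⟨k, hkm, hk⟩ := List.any_eq_true.1 hk
  have hk' := List.mem_range.1 hkm
  have heven : ∀ i < 128, Equiv.Perm.sign (sP i) = 1 := fun i hi => by
    rw [← act8_sylC hi, ← Equiv.Perm.mem_alternatingGroup, ← act8_range]
    exact ⟨_, rfl⟩
  rw [Bool.or_eq_true, beq_iff_eq, beq_iff_eq] at hk
  have hσk : σ = sP k := by
    rcases hk with hk | hk
    · exact sP_fw hk' fun y => by rw [← hk, hfv]
    · exfalso
      have e : σ = sP k * perm 8 oddU := Equiv.ext fun y => Fin.ext (by
        rw [← hfv, hk, List.getD_eq_getElem _ _ (by simp), Equiv.Perm.mul_apply, sP_val hk',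
          perm_apply sylImgs_valid.2]
        simp)
      have h1 : Equiv.Perm.sign σ = 1 := by
        rw [hσ, ← Equiv.Perm.mem_alternatingGroup, ← act8_range]
        exact ⟨_, rfl⟩
      rw [e, map_mul, heven k hk', oddU_sign, one_mul] at h1
      exact absurd h1 (by decide)
  have hker : act8 ((sylC k hk')⁻¹ * xc) = 1 := by
    rw [map_mul, map_inv, act8_sylC, ← hσ, hσk, inv_mul_cancel]
  rcases ker_two hker with e | e
  · rw [inv_mul_eq_one] at e
    have ex : syl k = x := Subtype.ext (show (syl k).1 = x.1 from congrArg (fun q : centP => q.1) e)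
    exact ex ▸ syl_mem k hk'
  · rw [inv_mul_eq_iff_eq_mul] at e
    have ex : x = syl k * tG :=
      Subtype.ext (show x.1 = (syl k).1 * tPerm from congrArg (fun q : centP => q.1) e)
    exact ex ▸ mul_mem (syl_mem k hk') tG_mem

/-- The 2-fusion system of a group isomorphic to the McLaughlin group is simple. -/
theorem fusion_simple {G : Type*} [Group G] [Finite G] (e : ↥data.grp ≃* G) (S : Sylow 2 G) :
    (groupFusionSystem (S : Subgroup G)).IsSimple 2 := by
  haveI : Fact (Nat.Prime 2) := ⟨Nat.prime_two⟩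
  have hfac : (Nat.card G).factorization 2 = 7 := by
    rw [← Nat.card_congr e.toEquiv, grp_eq.2, show (898128000 : ℕ) = 2 ^ 7 * 7016625 by norm_num,
      Nat.factorization_mul (by norm_num) (by norm_num), Nat.Prime.factorization_pow Nat.prime_two,
      Finsupp.add_apply, Finsupp.single_eq_same, Nat.factorization_eq_zero_of_not_dvd (by norm_num)]
  let S₀ : Sylow 2 G := Sylow.ofCard (sylGrp.map e.toMonoidHom) (by
    rw [Subgroup.card_map_of_injective e.injective, syl_card, hfac]
    norm_num)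
  have hmem : ∀ y : G, y ∈ (S₀ : Subgroup G) ↔ e.symm y ∈ sylGrp := fun y => Subgroup.mem_map_equiv
  refine Cfsg.Lib.Fusion.isSimple_of_selfNormalizing (t := e tG) S₀ S
    (fun h => tG_ne (e.injective (h.trans (map_one e).symm))) ((hmem _).2 (by simpa using tG_mem)) ?_ ?_ ?_ ?_
  · intro y hy h
    rcases syl_center ((hmem y).1 hy) fun q hq => by
      have := (h (e q) ((hmem _).2 (by simpa using hq))).map e.symm
      simpa using this with h1 | h1
    · exact Or.inl (by simpa using congrArg e h1)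
    · exact Or.inr (by simpa using congrArg e h1)
  · intro y hy hy1
    have hord : orderOf (e.symm y) = 2 := by
      rw [MulEquiv.orderOf_eq]
      exact orderOf_eq_prime (by rw [pow_two, hy]) hy1
    obtain ⟨g, hg⟩ := isConj_iff.1 (isConj_tG hord)
    exact ⟨e g, by rw [← map_inv, ← map_mul, ← map_mul, hg, MulEquiv.apply_symm_apply]⟩
  · rintro _ ⟨y, hy, rfl⟩
    have h := Subgroup.mem_map_of_mem e.toMonoidHom (sylGrp_invol hy)
    rw [MonoidHom.map_closure] at h
    refine Subgroup.closure_mono ?_ h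
    rintro _ ⟨z, ⟨hz, hzz⟩, rfl⟩
    exact ⟨Subgroup.mem_map_of_mem _ hz, by rw [← map_mul, hzz, map_one]⟩
  · intro y hy
    refine (hmem y).2 (normalizer_le ?_)
    refine Subgroup.mem_normalizer_iff.2 fun h => ?_
    have := Subgroup.mem_normalizer_iff.1 hy (e h)
    simp only [SetLike.mem_coe, hmem, map_mul, map_inv, MulEquiv.symm_apply_apply] at this
    exact this

end Cfsg.Lib.McLModel.Inv
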