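import Cfsg.Agent.McLModel.InvData
import Cfsg.Agent.McLModel.Data
import Mathlib.GroupTheory.Perm.Sign

/-!
Kernel checks for involutions of the McLaughlin group on 275 vectors.
-/

set_option autoImplicit false
set_option Elab.async false

namespace Cfsg.Lib.McLModel.Inv

open Cfsg.Lib.CosetCert Cfsg.Lib.CosetCert.OutCert Cfsg.Lib.PermCert

/-- The bisection field of a point. -/
def fld (x : ℕ) : ℕ := (fixPart >>> (8 * x)) % 256

/-- A point is fixed by the involution. -/
def isFix (x : ℕ) : Bool := fld x != 0

/-- Two of the eight things are on one side of the bisection of a point. -/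
def same (i j a : ℕ) : Bool := (fld a).testBit i == (fld a).testBit j

/-- Two words in the involutions agree on the base points. -/
def same5 (w v : List ℕ) : Bool :=
  Data.isLow w && Data.isLow v && [5, 62, 25, 0, 1].all fun x => evalW data.xTabs w x == evalW data.xTabs v x

theorem fix_ok : ((List.range 275).all fun x => (isFix x == (evalW data.xTabs [0] x == x))) = true ∧
    (fixPts.all fun x => Nat.blt x 275 && isFix x) = true ∧
    ((List.range 275).all fun x => !isFix x || fixPts.contains x) = true := by decide +kernel

theorem invol_ok : data.sameW [0] [] = false := by decide +kernel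

theorem chainF_ok : chainOK data.low 275 4 (chainF.map SLev.lev) = true ∧ chainF.all (SLev.ok data.low) = true ∧
    chainSize (chainF.map SLev.lev) = 898128000 ∧
    (chainF.all fun S => S.lev.gens.all fun g => Data.isLow g) = true ∧
    (chainF.map fun S => S.lev.b) = [5, 62, 25, 0, 1] ∧ (isFix 5 && isFix 62 && isFix 25) = true := by decide +kernel

theorem chainF_heads : (chainF.all fun S => S.idx.head? == some (S.lev.b, [])) = true := by decide +kernel

/-- The fixed points among the keys of a level. -/
def fixKeys (j : ℕ) : List ℕ := ((chainF.getD j ⟨⟨0, [], []⟩, []⟩).idx.map Prod.fst).filter isFix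

theorem fixKeys_ok : (fixKeys 0).length ≤ 35 ∧ (fixKeys 1).length ≤ 18 ∧ (fixKeys 2).length ≤ 8 := by decide +kernel

/-- Two further images give an element commuting with the involution. -/
def accept (a b : ℕ) : Bool :=
  match sift data.low chainF [5, 62, 25, a, b] with
  | none => false
  | some w => same5 (w ++ [0]) (0 :: w)

/-- The accepted pairs of images. -/
def accepted : List (ℕ × ℕ) :=
  (((chainF.getD 3 ⟨⟨0, [], []⟩, []⟩).idx.map Prod.fst).flatMap fun a => (List.range 275).map fun b => (a, b)).filter
    fun q => accept q.1 q.2

theorem accepted_ok : accepted.length ≤ 8 := by decide +kernel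

theorem chainC_ok : chainOK data.low 275 4 chainC = true ∧ chainSize chainC = 40320 ∧
    (chainC.all fun L => L.gens.all fun g => centGens.contains g) = true ∧
    (centGens.all fun w => Data.isLow w && same5 (w ++ [0]) (0 :: w)) = true ∧
    centGens.length = 11 ∧ centImgs.length = 11 := by decide +kernel

theorem imgs_valid : centImgs.all (valid 8) = true := by decide +kernel

theorem imgs_sign : ∀ k : Fin 11, Equiv.Perm.sign (perm 8 (centImgs.getD k.val (0, 0))) = 1 := by decide +kernel

theorem imgs_chain : chainOK centImgs 8 centImgs.length chainI = true ∧ chainSize chainI = 20160 := by decide +kernel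

/-- A generator carries the bisections as its image says. -/
def carryOK (k : ℕ) : Bool :=
  fixPts.all fun a =>
    ((List.range 8).all fun i => (fld (evalW data.xTabs (centGens.getD k []) a)).testBit (ap (centImgs.getD k (0, 0)).2 i)
      == (fld a).testBit i) ||
    ((List.range 8).all fun i => (fld (evalW data.xTabs (centGens.getD k []) a)).testBit (ap (centImgs.getD k (0, 0)).2 i)
      == !(fld a).testBit i)

theorem carry_ok : (List.range 11).all carryOK = true := by decide +kernel

theorem pairs_sep : ((List.range 8).all fun i => (List.range 8).all fun j => (List.range 8).all fun i' =>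
    (List.range 8).all fun j' => i == j || (i == i' && j == j') || (i == j' && j == i') ||
      fixPts.any fun a => same i j a != same i' j' a) = true := by decide +kernel

theorem square_ok : same5 (sqWord ++ sqWord) [0] = true ∧ Data.isLow sqWord = true ∧
    same5 (sqWord ++ [0]) (0 :: sqWord) = true := by decide +kernel

theorem syl_low : sylWords.length = 128 ∧ (sylWords.all fun w => Data.isLow w) = true ∧
    (sylGens.all fun w => Data.isLow w) = true ∧ sylWords.getD 0 [] = [] := by decide +kernel

theorem syl_mul : ((List.range 128).all fun i => (List.range sylGens.length).all fun j =>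
    Nat.blt ((sylMul.getD i []).getD j 0) 128 &&
      same5 (sylWords.getD i [] ++ sylGens.getD j []) (sylWords.getD ((sylMul.getD i []).getD j 0) [])) = true := by
  decide +kernel

theorem syl_reach : ((List.range' 1 127).all fun i => (List.range i).any fun p =>
    (List.range sylGens.length).any fun j => (sylMul.getD p []).getD j 0 == i) = true := by decide +kernel

theorem syl_distinct : ((List.range 128).all fun i => (List.range i).all fun j =>
    !same5 (sylWords.getD i []) (sylWords.getD j [])) = true := by decide +kernel

theorem syl_invol : ((List.range' 1 127).all fun i =>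
    !same5 (sylWords.getD i [] ++ sylWords.getD i []) [] || sylInv.any fun e => e.1 == i) = true := by decide +kernel

theorem syl_conj : (sylInv.all fun e => Data.isLow e.2 && Nat.blt e.1 128 &&
    same5 (e.2 ++ [0]) (sylWords.getD e.1 [] ++ e.2)) = true := by decide +kernel

end Cfsg.Lib.McLModel.Inv
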