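import Cfsg.Agent.CosetCert.Sift

/-!
Generated: the involution centraliser and a Sylow 2-subgroup of the McLaughlin group.
-/

set_option autoImplicit false

namespace Cfsg.Lib.McLModel.Inv

open Cfsg.Lib.CosetCert Cfsg.Lib.PermCert

def orbF0_0 : List (ℕ × ℕ × ℕ) :=
  [(131, 5, 1), (38, 5, 2), (6, 5, 3), (183, 131, 0), (16, 131, 2), (2, 131, 3), (167, 38, 0), (50, 38, 3),
   (29, 6, 0), (123, 6, 2), (47, 183, 1), (197, 183, 2), (230, 183, 3), (154, 16, 0), (24, 16, 3), (136, 2, 2),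
   (56, 167, 1), (202, 167, 2), (55, 167, 3), (1, 50, 0), (8, 29, 1), (88, 29, 2), (65, 29, 3), (72, 47, 0),
   (271, 47, 2), (42, 47, 3), (244, 197, 0), (267, 197, 1), (247, 197, 3), (59, 230, 1), (125, 230, 2), (66, 154, 1),
   (85, 154, 2), (112, 154, 3), (192, 24, 0), (175, 136, 0), (91, 56, 2), (43, 56, 3), (257, 202, 0), (210, 202, 1),
   (21, 202, 3), (101, 55, 0), (104, 55, 1), (80, 55, 2), (219, 1, 1), (111, 1, 2), (98, 1, 3), (87, 8, 0),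
   (150, 8, 2), (97, 88, 0), (235, 88, 1), (241, 72, 1), (133, 72, 2), (139, 72, 3), (215, 271, 0), (250, 271, 3),
   (193, 42, 0), (106, 42, 1), (225, 244, 1), (48, 244, 2)]

def orbF0_1 : List (ℕ × ℕ × ℕ) :=
  [(266, 244, 3), (146, 267, 0), (62, 267, 3), (239, 247, 0), (206, 59, 0), (249, 59, 2), (169, 125, 0), (179, 125, 1),
   (12, 125, 3), (177, 66, 0), (182, 66, 2), (53, 66, 3), (26, 85, 0), (180, 85, 3), (194, 112, 2), (158, 192, 2),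
   (36, 175, 2), (261, 175, 3), (108, 91, 0), (20, 91, 1), (19, 91, 3), (178, 43, 0), (203, 43, 1), (25, 43, 2),
   (3, 257, 1), (114, 257, 3), (22, 210, 3), (110, 21, 1), (116, 101, 1), (105, 101, 2), (75, 101, 3), (49, 104, 0),
   (246, 104, 2), (14, 80, 0), (0, 80, 1), (228, 219, 0), (149, 219, 2), (128, 219, 3), (144, 111, 0), (200, 111, 1),
   (86, 111, 3), (258, 98, 2), (220, 87, 2), (96, 87, 3), (147, 150, 0), (243, 150, 1), (37, 97, 1), (227, 97, 2),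
   (141, 97, 3), (122, 235, 0), (218, 241, 2), (17, 241, 3), (262, 133, 1), (84, 139, 0), (99, 139, 1), (171, 139, 2),
   (74, 250, 0), (205, 250, 2), (254, 193, 1), (63, 193, 2)]

def orbF0_2 : List (ℕ × ℕ × ℕ) :=
  [(68, 106, 0), (121, 225, 2), (138, 48, 0), (118, 48, 1), (30, 48, 3), (248, 266, 0), (170, 266, 1), (71, 266, 2),
   (160, 146, 1), (89, 146, 2), (94, 146, 3), (15, 62, 2), (237, 239, 1), (70, 239, 3), (126, 206, 1), (161, 206, 2),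
   (166, 206, 3), (119, 249, 0), (204, 249, 3), (212, 169, 2), (77, 179, 0), (260, 12, 0), (64, 177, 2), (95, 182, 3),
   (107, 53, 0), (82, 53, 2), (51, 26, 3), (58, 194, 0), (28, 158, 0), (52, 36, 0), (115, 36, 1), (41, 36, 3),
   (39, 261, 1), (40, 20, 3), (124, 19, 0), (195, 19, 1), (45, 178, 1), (269, 178, 2), (181, 203, 0), (73, 203, 2),
   (223, 25, 1), (4, 3, 3), (184, 114, 1), (273, 114, 2), (57, 22, 1), (209, 110, 0), (76, 110, 2), (255, 105, 3),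
   (120, 75, 1), (83, 75, 2), (164, 49, 3), (23, 246, 0), (213, 246, 1), (78, 14, 3), (155, 228, 2), (199, 128, 0),
   (103, 144, 2), (113, 144, 3), (7, 200, 3), (152, 86, 0)]

def orbF0_3 : List (ℕ × ℕ × ℕ) :=
  [(130, 258, 0), (148, 258, 3), (9, 220, 1), (132, 243, 0), (187, 243, 3), (211, 37, 0), (32, 37, 3), (18, 141, 0),
   (172, 141, 1), (233, 141, 2), (109, 122, 1), (272, 218, 3), (156, 262, 0), (236, 84, 2), (13, 171, 3), (92, 205, 1),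
   (81, 254, 0), (196, 254, 2), (54, 63, 0), (153, 68, 2), (33, 68, 3), (264, 121, 0), (69, 30, 0), (265, 248, 1),
   (216, 248, 3), (270, 160, 3), (222, 94, 2), (46, 15, 0), (217, 237, 0), (221, 237, 3), (231, 70, 1), (274, 70, 2),
   (102, 126, 2), (135, 126, 3), (188, 161, 1), (93, 161, 3), (34, 166, 0), (214, 166, 1), (10, 166, 2), (159, 119, 3),
   (11, 212, 1), (253, 107, 2), (67, 51, 1), (140, 51, 2), (268, 28, 1), (256, 39, 0), (44, 40, 1), (79, 40, 2),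
   (251, 45, 3), (229, 269, 0), (27, 73, 1), (31, 4, 1), (100, 4, 2), (129, 273, 0), (234, 273, 3), (127, 209, 3),
   (224, 255, 1), (117, 83, 3), (198, 164, 2), (173, 213, 0)]

def orbF0_4 : List (ℕ × ℕ × ℕ) :=
  [(207, 78, 2), (61, 155, 1), (157, 103, 1), (137, 113, 2), (208, 130, 1), (238, 148, 1), (142, 32, 1), (186, 233, 1),
   (232, 233, 3), (242, 236, 0), (90, 236, 1), (35, 13, 0), (162, 92, 0), (191, 196, 0), (60, 153, 1), (190, 33, 0),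
   (240, 264, 1), (263, 264, 3), (259, 216, 2), (201, 222, 3), (163, 231, 2), (189, 188, 3), (143, 93, 0), (176, 253, 3),
   (145, 268, 3), (134, 100, 3), (226, 129, 1), (245, 129, 3), (151, 198, 1), (185, 173, 2), (168, 35, 1), (174, 162, 1),
   (165, 60, 0), (252, 134, 0)]

def orbF0 : List (ℕ × ℕ × ℕ) :=
  orbF0_0 ++ orbF0_1 ++ orbF0_2 ++ orbF0_3 ++ orbF0_4

def idxF0_0 : List (ℕ × List ℕ) :=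
  [(5, []), (131, [1]), (38, [2]), (6, [3]),
   (183, [1,0]), (16, [1,2]), (2, [1,3]), (167, [2,0]),
   (50, [2,3]), (29, [3,0]), (123, [3,2]), (47, [1,0,1]),
   (197, [1,0,2]), (230, [1,0,3]), (154, [1,2,0]), (24, [1,2,3]),
   (136, [1,3,2]), (56, [2,0,1]), (202, [2,0,2]), (55, [2,0,3]),
   (1, [2,3,0]), (8, [3,0,1]), (88, [3,0,2]), (65, [3,0,3]),
   (72, [1,0,1,0]), (271, [1,0,1,2]), (42, [1,0,1,3]), (244, [1,0,2,0]),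
   (267, [1,0,2,1]), (247, [1,0,2,3]), (59, [1,0,3,1]), (125, [1,0,3,2]),
   (66, [1,2,0,1]), (85, [1,2,0,2]), (112, [1,2,0,3]), (192, [1,2,3,0]),
   (175, [1,3,2,0]), (91, [2,0,1,2]), (43, [2,0,1,3]), (257, [2,0,2,0]),
   (210, [2,0,2,1]), (21, [2,0,2,3]), (101, [2,0,3,0]), (104, [2,0,3,1]),
   (80, [2,0,3,2]), (219, [2,3,0,1]), (111, [2,3,0,2]), (98, [2,3,0,3]),
   (87, [3,0,1,0]), (150, [3,0,1,2]), (97, [3,0,2,0]), (235, [3,0,2,1]),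
   (241, [1,0,1,0,1]), (133, [1,0,1,0,2]), (139, [1,0,1,0,3]), (215, [1,0,1,2,0]),
   (250, [1,0,1,2,3]), (193, [1,0,1,3,0]), (106, [1,0,1,3,1]), (225, [1,0,2,0,1])]

def idxF0_1 : List (ℕ × List ℕ) :=
  [(48, [1,0,2,0,2]), (266, [1,0,2,0,3]), (146, [1,0,2,1,0]), (62, [1,0,2,1,3]),
   (239, [1,0,2,3,0]), (206, [1,0,3,1,0]), (249, [1,0,3,1,2]), (169, [1,0,3,2,0]),
   (179, [1,0,3,2,1]), (12, [1,0,3,2,3]), (177, [1,2,0,1,0]), (182, [1,2,0,1,2]),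
   (53, [1,2,0,1,3]), (26, [1,2,0,2,0]), (180, [1,2,0,2,3]), (194, [1,2,0,3,2]),
   (158, [1,2,3,0,2]), (36, [1,3,2,0,2]), (261, [1,3,2,0,3]), (108, [2,0,1,2,0]),
   (20, [2,0,1,2,1]), (19, [2,0,1,2,3]), (178, [2,0,1,3,0]), (203, [2,0,1,3,1]),
   (25, [2,0,1,3,2]), (3, [2,0,2,0,1]), (114, [2,0,2,0,3]), (22, [2,0,2,1,3]),
   (110, [2,0,2,3,1]), (116, [2,0,3,0,1]), (105, [2,0,3,0,2]), (75, [2,0,3,0,3]),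
   (49, [2,0,3,1,0]), (246, [2,0,3,1,2]), (14, [2,0,3,2,0]), (0, [2,0,3,2,1]),
   (228, [2,3,0,1,0]), (149, [2,3,0,1,2]), (128, [2,3,0,1,3]), (144, [2,3,0,2,0]),
   (200, [2,3,0,2,1]), (86, [2,3,0,2,3]), (258, [2,3,0,3,2]), (220, [3,0,1,0,2]),
   (96, [3,0,1,0,3]), (147, [3,0,1,2,0]), (243, [3,0,1,2,1]), (37, [3,0,2,0,1]),
   (227, [3,0,2,0,2]), (141, [3,0,2,0,3]), (122, [3,0,2,1,0]), (218, [1,0,1,0,1,2]),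
   (17, [1,0,1,0,1,3]), (262, [1,0,1,0,2,1]), (84, [1,0,1,0,3,0]), (99, [1,0,1,0,3,1]),
   (171, [1,0,1,0,3,2]), (74, [1,0,1,2,3,0]), (205, [1,0,1,2,3,2]), (254, [1,0,1,3,0,1])]

def idxF0_2 : List (ℕ × List ℕ) :=
  [(63, [1,0,1,3,0,2]), (68, [1,0,1,3,1,0]), (121, [1,0,2,0,1,2]), (138, [1,0,2,0,2,0]),
   (118, [1,0,2,0,2,1]), (30, [1,0,2,0,2,3]), (248, [1,0,2,0,3,0]), (170, [1,0,2,0,3,1]),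
   (71, [1,0,2,0,3,2]), (160, [1,0,2,1,0,1]), (89, [1,0,2,1,0,2]), (94, [1,0,2,1,0,3]),
   (15, [1,0,2,1,3,2]), (237, [1,0,2,3,0,1]), (70, [1,0,2,3,0,3]), (126, [1,0,3,1,0,1]),
   (161, [1,0,3,1,0,2]), (166, [1,0,3,1,0,3]), (119, [1,0,3,1,2,0]), (204, [1,0,3,1,2,3]),
   (212, [1,0,3,2,0,2]), (77, [1,0,3,2,1,0]), (260, [1,0,3,2,3,0]), (64, [1,2,0,1,0,2]),
   (95, [1,2,0,1,2,3]), (107, [1,2,0,1,3,0]), (82, [1,2,0,1,3,2]), (51, [1,2,0,2,0,3]),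
   (58, [1,2,0,3,2,0]), (28, [1,2,3,0,2,0]), (52, [1,3,2,0,2,0]), (115, [1,3,2,0,2,1]),
   (41, [1,3,2,0,2,3]), (39, [1,3,2,0,3,1]), (40, [2,0,1,2,1,3]), (124, [2,0,1,2,3,0]),
   (195, [2,0,1,2,3,1]), (45, [2,0,1,3,0,1]), (269, [2,0,1,3,0,2]), (181, [2,0,1,3,1,0]),
   (73, [2,0,1,3,1,2]), (223, [2,0,1,3,2,1]), (4, [2,0,2,0,1,3]), (184, [2,0,2,0,3,1]),
   (273, [2,0,2,0,3,2]), (57, [2,0,2,1,3,1]), (209, [2,0,2,3,1,0]), (76, [2,0,2,3,1,2]),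
   (255, [2,0,3,0,2,3]), (120, [2,0,3,0,3,1]), (83, [2,0,3,0,3,2]), (164, [2,0,3,1,0,3]),
   (23, [2,0,3,1,2,0]), (213, [2,0,3,1,2,1]), (78, [2,0,3,2,0,3]), (155, [2,3,0,1,0,2]),
   (199, [2,3,0,1,3,0]), (103, [2,3,0,2,0,2]), (113, [2,3,0,2,0,3]), (7, [2,3,0,2,1,3])]

def idxF0_3 : List (ℕ × List ℕ) :=
  [(152, [2,3,0,2,3,0]), (130, [2,3,0,3,2,0]), (148, [2,3,0,3,2,3]), (9, [3,0,1,0,2,1]),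
   (132, [3,0,1,2,1,0]), (187, [3,0,1,2,1,3]), (211, [3,0,2,0,1,0]), (32, [3,0,2,0,1,3]),
   (18, [3,0,2,0,3,0]), (172, [3,0,2,0,3,1]), (233, [3,0,2,0,3,2]), (109, [3,0,2,1,0,1]),
   (272, [1,0,1,0,1,2,3]), (156, [1,0,1,0,2,1,0]), (236, [1,0,1,0,3,0,2]), (13, [1,0,1,0,3,2,3]),
   (92, [1,0,1,2,3,2,1]), (81, [1,0,1,3,0,1,0]), (196, [1,0,1,3,0,1,2]), (54, [1,0,1,3,0,2,0]),
   (153, [1,0,1,3,1,0,2]), (33, [1,0,1,3,1,0,3]), (264, [1,0,2,0,1,2,0]), (69, [1,0,2,0,2,3,0]),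
   (265, [1,0,2,0,3,0,1]), (216, [1,0,2,0,3,0,3]), (270, [1,0,2,1,0,1,3]), (222, [1,0,2,1,0,3,2]),
   (46, [1,0,2,1,3,2,0]), (217, [1,0,2,3,0,1,0]), (221, [1,0,2,3,0,1,3]), (231, [1,0,2,3,0,3,1]),
   (274, [1,0,2,3,0,3,2]), (102, [1,0,3,1,0,1,2]), (135, [1,0,3,1,0,1,3]), (188, [1,0,3,1,0,2,1]),
   (93, [1,0,3,1,0,2,3]), (34, [1,0,3,1,0,3,0]), (214, [1,0,3,1,0,3,1]), (10, [1,0,3,1,0,3,2]),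
   (159, [1,0,3,1,2,0,3]), (11, [1,0,3,2,0,2,1]), (253, [1,2,0,1,3,0,2]), (67, [1,2,0,2,0,3,1]),
   (140, [1,2,0,2,0,3,2]), (268, [1,2,3,0,2,0,1]), (256, [1,3,2,0,3,1,0]), (44, [2,0,1,2,1,3,1]),
   (79, [2,0,1,2,1,3,2]), (251, [2,0,1,3,0,1,3]), (229, [2,0,1,3,0,2,0]), (27, [2,0,1,3,1,2,1]),
   (31, [2,0,2,0,1,3,1]), (100, [2,0,2,0,1,3,2]), (129, [2,0,2,0,3,2,0]), (234, [2,0,2,0,3,2,3]),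
   (127, [2,0,2,3,1,0,3]), (224, [2,0,3,0,2,3,1]), (117, [2,0,3,0,3,2,3]), (198, [2,0,3,1,0,3,2])]

def idxF0_4 : List (ℕ × List ℕ) :=
  [(173, [2,0,3,1,2,1,0]), (207, [2,0,3,2,0,3,2]), (61, [2,3,0,1,0,2,1]), (157, [2,3,0,2,0,2,1]),
   (137, [2,3,0,2,0,3,2]), (208, [2,3,0,3,2,0,1]), (238, [2,3,0,3,2,3,1]), (142, [3,0,2,0,1,3,1]),
   (186, [3,0,2,0,3,2,1]), (232, [3,0,2,0,3,2,3]), (242, [1,0,1,0,3,0,2,0]), (90, [1,0,1,0,3,0,2,1]),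
   (35, [1,0,1,0,3,2,3,0]), (162, [1,0,1,2,3,2,1,0]), (191, [1,0,1,3,0,1,2,0]), (60, [1,0,1,3,1,0,2,1]),
   (190, [1,0,1,3,1,0,3,0]), (240, [1,0,2,0,1,2,0,1]), (263, [1,0,2,0,1,2,0,3]), (259, [1,0,2,0,3,0,3,2]),
   (201, [1,0,2,1,0,3,2,3]), (163, [1,0,2,3,0,3,1,2]), (189, [1,0,3,1,0,2,1,3]), (143, [1,0,3,1,0,2,3,0]),
   (176, [1,2,0,1,3,0,2,3]), (145, [1,2,3,0,2,0,1,3]), (134, [2,0,2,0,1,3,2,3]), (226, [2,0,2,0,3,2,0,1]),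
   (245, [2,0,2,0,3,2,0,3]), (151, [2,0,3,1,0,3,2,1]), (185, [2,0,3,1,2,1,0,2]), (168, [1,0,1,0,3,2,3,0,1]),
   (174, [1,0,1,2,3,2,1,0,1]), (165, [1,0,1,3,1,0,2,1,0]), (252, [2,0,2,0,1,3,2,3,0])]

def idxF0 : List (ℕ × List ℕ) :=
  idxF0_0 ++ idxF0_1 ++ idxF0_2 ++ idxF0_3 ++ idxF0_4

def gensF0_0 : List (List ℕ) :=
  [[0],
   [1],
   [2],
   [3]]

def gensF0 : List (List ℕ) :=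
  gensF0_0

def levF0 : SLev := ⟨⟨5, gensF0, orbF0⟩, idxF0⟩

def orbF1_0 : List (ℕ × ℕ × ℕ) :=
  [(249, 62, 1), (258, 62, 2), (119, 249, 0), (183, 249, 1), (179, 249, 2), (130, 258, 0), (78, 258, 1), (1, 119, 1),
   (4, 119, 2), (131, 183, 0), (156, 183, 2), (77, 179, 0), (204, 179, 1), (151, 78, 1), (50, 1, 0), (7, 1, 1),
   (153, 4, 0), (52, 4, 1), (123, 131, 1), (192, 131, 2), (262, 156, 0), (265, 156, 1), (93, 77, 1), (57, 204, 0),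
   (92, 204, 1), (118, 204, 2), (132, 151, 2), (40, 7, 0), (22, 7, 2), (54, 153, 1), (36, 52, 0), (257, 52, 1),
   (43, 52, 2), (56, 123, 0), (109, 123, 2), (24, 192, 0), (158, 192, 1), (272, 262, 1), (160, 265, 0), (155, 265, 1),
   (271, 265, 2), (143, 93, 0), (124, 93, 1), (210, 57, 1), (19, 57, 2), (162, 92, 0), (253, 92, 2), (64, 118, 0),
   (170, 118, 1), (243, 132, 0), (70, 132, 1), (73, 40, 1), (202, 40, 2), (195, 22, 0), (246, 22, 1), (63, 54, 0),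
   (26, 54, 1), (96, 54, 2), (261, 36, 1), (182, 36, 2)]

def orbF1_1 : List (ℕ × ℕ × ℕ) :=
  [(178, 43, 0), (76, 43, 1), (14, 56, 2), (105, 109, 1), (16, 24, 1), (28, 158, 0), (29, 158, 1), (186, 272, 0),
   (196, 272, 1), (147, 272, 2), (141, 160, 1), (197, 160, 2), (215, 271, 0), (230, 271, 1), (168, 143, 1), (224, 143, 2),
   (159, 210, 2), (33, 253, 1), (9, 170, 0), (244, 170, 1), (237, 170, 2), (8, 243, 1), (216, 70, 0), (79, 70, 2),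
   (90, 73, 2), (223, 195, 1), (23, 246, 0), (167, 246, 1), (85, 26, 0), (120, 96, 0), (82, 261, 0), (39, 261, 1),
   (256, 261, 2), (17, 182, 0), (112, 182, 1), (80, 76, 2), (111, 14, 1), (161, 105, 0), (174, 105, 2), (154, 16, 0),
   (6, 16, 1), (45, 16, 2), (185, 28, 2), (198, 186, 2), (191, 196, 0), (150, 147, 0), (122, 147, 1), (18, 141, 0),
   (135, 141, 2), (42, 197, 1), (110, 215, 1), (2, 230, 0), (15, 230, 1), (190, 230, 2), (133, 224, 1), (127, 159, 0),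
   (46, 159, 1), (149, 33, 2), (247, 9, 2), (217, 237, 0)]

def orbF1_2 : List (ℕ × ℕ × ℕ) :=
  [(87, 8, 0), (187, 8, 1), (38, 8, 2), (220, 216, 2), (231, 79, 0), (238, 90, 0), (41, 223, 0), (128, 223, 2),
   (203, 167, 2), (53, 85, 1), (65, 85, 2), (72, 120, 1), (136, 82, 2), (175, 39, 2), (95, 112, 1), (144, 111, 0),
   (137, 185, 1), (83, 191, 1), (235, 122, 0), (241, 122, 1), (115, 122, 2), (107, 135, 1), (193, 42, 0), (47, 42, 1),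
   (199, 42, 2), (209, 110, 0), (0, 110, 1), (116, 2, 2), (163, 15, 2), (98, 149, 1), (239, 247, 0), (181, 87, 2),
   (225, 220, 0), (27, 203, 1), (260, 144, 2), (35, 83, 2), (75, 235, 2), (214, 107, 2), (12, 209, 2), (221, 239, 1),
   (13, 35, 0)]

def orbF1 : List (ℕ × ℕ × ℕ) :=
  orbF1_0 ++ orbF1_1 ++ orbF1_2

def idxF1_0 : List (ℕ × List ℕ) :=
  [(62, []), (249, [1]), (258, [2]), (119, [1,0]),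
   (183, [1,1]), (179, [1,2]), (130, [2,0]), (78, [2,1]),
   (1, [1,0,1]), (4, [1,0,2]), (131, [1,1,0]), (156, [1,1,2]),
   (77, [1,2,0]), (204, [1,2,1]), (151, [2,1,1]), (50, [1,0,1,0]),
   (7, [1,0,1,1]), (153, [1,0,2,0]), (52, [1,0,2,1]), (123, [1,1,0,1]),
   (192, [1,1,0,2]), (262, [1,1,2,0]), (265, [1,1,2,1]), (93, [1,2,0,1]),
   (57, [1,2,1,0]), (92, [1,2,1,1]), (118, [1,2,1,2]), (132, [2,1,1,2]),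
   (40, [1,0,1,1,0]), (22, [1,0,1,1,2]), (54, [1,0,2,0,1]), (36, [1,0,2,1,0]),
   (257, [1,0,2,1,1]), (43, [1,0,2,1,2]), (56, [1,1,0,1,0]), (109, [1,1,0,1,2]),
   (24, [1,1,0,2,0]), (158, [1,1,0,2,1]), (272, [1,1,2,0,1]), (160, [1,1,2,1,0]),
   (155, [1,1,2,1,1]), (271, [1,1,2,1,2]), (143, [1,2,0,1,0]), (124, [1,2,0,1,1]),
   (210, [1,2,1,0,1]), (19, [1,2,1,0,2]), (162, [1,2,1,1,0]), (253, [1,2,1,1,2]),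
   (64, [1,2,1,2,0]), (170, [1,2,1,2,1]), (243, [2,1,1,2,0]), (70, [2,1,1,2,1]),
   (73, [1,0,1,1,0,1]), (202, [1,0,1,1,0,2]), (195, [1,0,1,1,2,0]), (246, [1,0,1,1,2,1]),
   (63, [1,0,2,0,1,0]), (26, [1,0,2,0,1,1]), (96, [1,0,2,0,1,2]), (261, [1,0,2,1,0,1])]

def idxF1_1 : List (ℕ × List ℕ) :=
  [(182, [1,0,2,1,0,2]), (178, [1,0,2,1,2,0]), (76, [1,0,2,1,2,1]), (14, [1,1,0,1,0,2]),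
   (105, [1,1,0,1,2,1]), (16, [1,1,0,2,0,1]), (28, [1,1,0,2,1,0]), (29, [1,1,0,2,1,1]),
   (186, [1,1,2,0,1,0]), (196, [1,1,2,0,1,1]), (147, [1,1,2,0,1,2]), (141, [1,1,2,1,0,1]),
   (197, [1,1,2,1,0,2]), (215, [1,1,2,1,2,0]), (230, [1,1,2,1,2,1]), (168, [1,2,0,1,0,1]),
   (224, [1,2,0,1,0,2]), (159, [1,2,1,0,1,2]), (33, [1,2,1,1,2,1]), (9, [1,2,1,2,1,0]),
   (244, [1,2,1,2,1,1]), (237, [1,2,1,2,1,2]), (8, [2,1,1,2,0,1]), (216, [2,1,1,2,1,0]),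
   (79, [2,1,1,2,1,2]), (90, [1,0,1,1,0,1,2]), (223, [1,0,1,1,2,0,1]), (23, [1,0,1,1,2,1,0]),
   (167, [1,0,1,1,2,1,1]), (85, [1,0,2,0,1,1,0]), (120, [1,0,2,0,1,2,0]), (82, [1,0,2,1,0,1,0]),
   (39, [1,0,2,1,0,1,1]), (256, [1,0,2,1,0,1,2]), (17, [1,0,2,1,0,2,0]), (112, [1,0,2,1,0,2,1]),
   (80, [1,0,2,1,2,1,2]), (111, [1,1,0,1,0,2,1]), (161, [1,1,0,1,2,1,0]), (174, [1,1,0,1,2,1,2]),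
   (154, [1,1,0,2,0,1,0]), (6, [1,1,0,2,0,1,1]), (45, [1,1,0,2,0,1,2]), (185, [1,1,0,2,1,0,2]),
   (198, [1,1,2,0,1,0,2]), (191, [1,1,2,0,1,1,0]), (150, [1,1,2,0,1,2,0]), (122, [1,1,2,0,1,2,1]),
   (18, [1,1,2,1,0,1,0]), (135, [1,1,2,1,0,1,2]), (42, [1,1,2,1,0,2,1]), (110, [1,1,2,1,2,0,1]),
   (2, [1,1,2,1,2,1,0]), (15, [1,1,2,1,2,1,1]), (190, [1,1,2,1,2,1,2]), (133, [1,2,0,1,0,2,1]),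
   (127, [1,2,1,0,1,2,0]), (46, [1,2,1,0,1,2,1]), (149, [1,2,1,1,2,1,2]), (247, [1,2,1,2,1,0,2])]

def idxF1_2 : List (ℕ × List ℕ) :=
  [(217, [1,2,1,2,1,2,0]), (87, [2,1,1,2,0,1,0]), (187, [2,1,1,2,0,1,1]), (38, [2,1,1,2,0,1,2]),
   (220, [2,1,1,2,1,0,2]), (231, [2,1,1,2,1,2,0]), (238, [1,0,1,1,0,1,2,0]), (41, [1,0,1,1,2,0,1,0]),
   (128, [1,0,1,1,2,0,1,2]), (203, [1,0,1,1,2,1,1,2]), (53, [1,0,2,0,1,1,0,1]), (65, [1,0,2,0,1,1,0,2]),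
   (72, [1,0,2,0,1,2,0,1]), (136, [1,0,2,1,0,1,0,2]), (175, [1,0,2,1,0,1,1,2]), (95, [1,0,2,1,0,2,1,1]),
   (144, [1,1,0,1,0,2,1,0]), (137, [1,1,0,2,1,0,2,1]), (83, [1,1,2,0,1,1,0,1]), (235, [1,1,2,0,1,2,1,0]),
   (241, [1,1,2,0,1,2,1,1]), (115, [1,1,2,0,1,2,1,2]), (107, [1,1,2,1,0,1,2,1]), (193, [1,1,2,1,0,2,1,0]),
   (47, [1,1,2,1,0,2,1,1]), (199, [1,1,2,1,0,2,1,2]), (209, [1,1,2,1,2,0,1,0]), (0, [1,1,2,1,2,0,1,1]),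
   (116, [1,1,2,1,2,1,0,2]), (163, [1,1,2,1,2,1,1,2]), (98, [1,2,1,1,2,1,2,1]), (239, [1,2,1,2,1,0,2,0]),
   (181, [2,1,1,2,0,1,0,2]), (225, [2,1,1,2,1,0,2,0]), (27, [1,0,1,1,2,1,1,2,1]), (260, [1,1,0,1,0,2,1,0,2]),
   (35, [1,1,2,0,1,1,0,1,2]), (75, [1,1,2,0,1,2,1,0,2]), (214, [1,1,2,1,0,1,2,1,2]), (12, [1,1,2,1,2,0,1,0,2]),
   (221, [1,2,1,2,1,0,2,0,1]), (13, [1,1,2,0,1,1,0,1,2,0])]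

def idxF1 : List (ℕ × List ℕ) :=
  idxF1_0 ++ idxF1_1 ++ idxF1_2

def gensF1_0 : List (List ℕ) :=
  [[0],
   [2,1,3],
   [1,0,3,0,3,1]]

def gensF1 : List (List ℕ) :=
  gensF1_0

def levF1 : SLev := ⟨⟨62, gensF1, orbF1⟩, idxF1⟩

def orbF2_0 : List (ℕ × ℕ × ℕ) :=
  [(81, 25, 1), (242, 25, 2), (254, 81, 0), (177, 81, 1), (97, 81, 2), (236, 242, 0), (152, 242, 1), (48, 254, 1),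
   (184, 254, 2), (66, 177, 0), (88, 97, 0), (255, 236, 1), (172, 236, 2), (86, 152, 0), (138, 48, 0), (101, 48, 1),
   (263, 48, 2), (212, 184, 0), (114, 184, 1), (270, 66, 2), (125, 88, 1), (134, 88, 2), (205, 255, 0), (248, 255, 1),
   (252, 255, 2), (140, 172, 0), (222, 172, 1), (31, 86, 1), (55, 101, 0), (259, 263, 0), (176, 212, 1), (200, 114, 0),
   (169, 125, 0), (10, 125, 2), (188, 134, 1), (266, 248, 0), (164, 222, 0), (113, 31, 0), (3, 31, 1), (148, 259, 1),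
   (117, 259, 2), (84, 169, 1), (201, 10, 0), (233, 266, 2), (208, 113, 1), (219, 113, 2), (227, 3, 0), (34, 148, 2),
   (139, 84, 0), (228, 84, 1), (171, 201, 1), (44, 227, 1), (229, 227, 2), (166, 34, 0), (269, 139, 2)]

def orbF2 : List (ℕ × ℕ × ℕ) :=
  orbF2_0

def idxF2_0 : List (ℕ × List ℕ) :=
  [(25, []), (81, [1]), (242, [2]), (254, [1,0]),
   (177, [1,1]), (97, [1,2]), (236, [2,0]), (152, [2,1]),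
   (48, [1,0,1]), (184, [1,0,2]), (66, [1,1,0]), (88, [1,2,0]),
   (255, [2,0,1]), (172, [2,0,2]), (86, [2,1,0]), (138, [1,0,1,0]),
   (101, [1,0,1,1]), (263, [1,0,1,2]), (212, [1,0,2,0]), (114, [1,0,2,1]),
   (270, [1,1,0,2]), (125, [1,2,0,1]), (134, [1,2,0,2]), (205, [2,0,1,0]),
   (248, [2,0,1,1]), (252, [2,0,1,2]), (140, [2,0,2,0]), (222, [2,0,2,1]),
   (31, [2,1,0,1]), (55, [1,0,1,1,0]), (259, [1,0,1,2,0]), (176, [1,0,2,0,1]),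
   (200, [1,0,2,1,0]), (169, [1,2,0,1,0]), (10, [1,2,0,1,2]), (188, [1,2,0,2,1]),
   (266, [2,0,1,1,0]), (164, [2,0,2,1,0]), (113, [2,1,0,1,0]), (3, [2,1,0,1,1]),
   (148, [1,0,1,2,0,1]), (117, [1,0,1,2,0,2]), (84, [1,2,0,1,0,1]), (201, [1,2,0,1,2,0]),
   (233, [2,0,1,1,0,2]), (208, [2,1,0,1,0,1]), (219, [2,1,0,1,0,2]), (227, [2,1,0,1,1,0]),
   (34, [1,0,1,2,0,1,2]), (139, [1,2,0,1,0,1,0]), (228, [1,2,0,1,0,1,1]), (171, [1,2,0,1,2,0,1]),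
   (44, [2,1,0,1,1,0,1]), (229, [2,1,0,1,1,0,2]), (166, [1,0,1,2,0,1,2,0]), (269, [1,2,0,1,0,1,0,2])]

def idxF2 : List (ℕ × List ℕ) :=
  idxF2_0

def gensF2_0 : List (List ℕ) :=
  [[0],
   [1,0,3,0,3,1,0,2,1,3,0,1,3,0,3,0,1],
   [0,1,0,2,1,3,0,1,0,2,0,1,0,2,3,1,2,0,1,0]]

def gensF2 : List (List ℕ) :=
  gensF2_0

def levF2 : SLev := ⟨⟨25, gensF2, orbF2⟩, idxF2⟩

def orbF3_0 : List (ℕ × ℕ × ℕ) :=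
  [(115, 0, 0), (26, 0, 1), (272, 115, 1), (1, 115, 2), (85, 26, 0), (186, 26, 1), (28, 26, 2), (150, 272, 2),
   (50, 1, 0), (149, 1, 1), (4, 85, 2), (135, 186, 2), (158, 28, 0), (147, 150, 0), (174, 150, 1), (109, 50, 1),
   (116, 149, 0), (76, 149, 1), (70, 149, 2), (153, 4, 0), (40, 4, 1), (45, 135, 0), (9, 147, 2), (210, 174, 2),
   (111, 116, 2), (216, 70, 0), (170, 153, 1), (7, 40, 0), (144, 40, 2)]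

def orbF3 : List (ℕ × ℕ × ℕ) :=
  orbF3_0

def idxF3_0 : List (ℕ × List ℕ) :=
  [(0, []), (115, [0]), (26, [1]), (272, [0,1]),
   (1, [0,2]), (85, [1,0]), (186, [1,1]), (28, [1,2]),
   (150, [0,1,2]), (50, [0,2,0]), (149, [0,2,1]), (4, [1,0,2]),
   (135, [1,1,2]), (158, [1,2,0]), (147, [0,1,2,0]), (174, [0,1,2,1]),
   (109, [0,2,0,1]), (116, [0,2,1,0]), (76, [0,2,1,1]), (70, [0,2,1,2]),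
   (153, [1,0,2,0]), (40, [1,0,2,1]), (45, [1,1,2,0]), (9, [0,1,2,0,2]),
   (210, [0,1,2,1,2]), (111, [0,2,1,0,2]), (216, [0,2,1,2,0]), (170, [1,0,2,0,1]),
   (7, [1,0,2,1,0]), (144, [1,0,2,1,2])]

def idxF3 : List (ℕ × List ℕ) :=
  idxF3_0

def gensF3_0 : List (List ℕ) :=
  [[0],
   [3,2,0,3,0,1,0,1,0,1,3,2,0,1,0,2,0,2],
   [1,3,2,3,0,2,0,3,2,0,2,3,0,2,0,3,2,3,1]]

def gensF3 : List (List ℕ) :=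
  gensF3_0

def levF3 : SLev := ⟨⟨0, gensF3, orbF3⟩, idxF3⟩

def orbF4_0 : List (ℕ × ℕ × ℕ) :=
  [(115, 1, 0), (150, 1, 1), (70, 115, 1), (272, 150, 0), (170, 150, 1), (149, 70, 0), (40, 70, 1), (144, 272, 1),
   (45, 170, 0), (174, 144, 1), (210, 45, 1)]

def orbF4 : List (ℕ × ℕ × ℕ) :=
  orbF4_0

def idxF4_0 : List (ℕ × List ℕ) :=
  [(1, []), (115, [0]), (150, [1]), (70, [0,1]),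
   (272, [1,0]), (170, [1,1]), (149, [0,1,0]), (40, [0,1,1]),
   (144, [1,0,1]), (45, [1,1,0]), (174, [1,0,1,1]), (210, [1,1,0,1])]

def idxF4 : List (ℕ × List ℕ) :=
  idxF4_0

def gensF4_0 : List (List ℕ) :=
  [[1,3,2,3,0,2,0,3,2,0,2,3,0,2,0,3,2,3,1],
   [1,0,2,3,2,0,2,1,3,2,0,2,3,0,1,2,0,3,1,0,1]]

def gensF4 : List (List ℕ) :=
  gensF4_0

def levF4 : SLev := ⟨⟨1, gensF4, orbF4⟩, idxF4⟩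

/-- A chain of the group starting with fixed points of the involution. -/
def chainF : List SLev := [levF0, levF1, levF2, levF3, levF4]

def orbC0_0 : List (ℕ × ℕ × ℕ) :=
  [(44, 5, 0), (78, 5, 1), (233, 44, 0), (89, 44, 1), (163, 78, 0), (151, 78, 1), (240, 233, 0), (65, 233, 1),
   (253, 89, 0), (270, 89, 1), (189, 240, 0), (168, 240, 1), (171, 65, 0), (142, 65, 1), (210, 253, 0), (103, 270, 0),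
   (117, 171, 0), (83, 171, 1), (25, 210, 0), (62, 103, 0), (174, 103, 1), (224, 117, 0), (221, 117, 1), (241, 83, 0),
   (155, 83, 1), (268, 25, 1), (214, 62, 0), (73, 62, 1), (176, 224, 1), (94, 221, 0), (188, 241, 0), (274, 155, 0),
   (95, 268, 1), (185, 214, 0)]

def orbC0 : List (ℕ × ℕ × ℕ) :=
  orbC0_0

def gensC0_0 : List (List ℕ) :=
  [[3,1,0,1,0,1,3,1,2,0,2,0,1,3,0,1,2,0,1,3,0,1],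
   [0,2,1,3,0,3,1,2,0,2,3,0,1,3,1]]

def gensC0 : List (List ℕ) :=
  gensC0_0

def levC0 : Lev := ⟨5, gensC0, orbC0⟩

def orbC1_0 : List (ℕ × ℕ × ℕ) :=
  [(73, 62, 0), (151, 62, 1), (241, 62, 2), (253, 73, 1), (185, 151, 0), (221, 151, 1), (95, 151, 2), (155, 241, 1),
   (210, 241, 2), (163, 253, 1), (214, 185, 0), (65, 185, 1), (168, 185, 2), (224, 221, 2), (78, 95, 1), (83, 155, 0),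
   (174, 163, 1)]

def orbC1 : List (ℕ × ℕ × ℕ) :=
  orbC1_0

def gensC1_0 : List (List ℕ) :=
  [[2,1,3,0,1,3,0,2,0,3,0,2,0,1,3,2,0,2,1,3,0],
   [1,3,2,0,3,0,2,1,3,0,1,3,1,2,0,2,0,3,1,0,1,0],
   [3,2,0,3,0,2,3,0,3,2,0,1,2,3,0,2,3]]

def gensC1 : List (List ℕ) :=
  gensC1_0

def levC1 : Lev := ⟨62, gensC1, orbC1⟩

def orbC2_0 : List (ℕ × ℕ × ℕ) :=
  [(233, 25, 0), (176, 25, 1), (188, 25, 2), (44, 233, 2), (270, 233, 3), (117, 176, 2), (171, 176, 3)]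

def orbC2 : List (ℕ × ℕ × ℕ) :=
  orbC2_0

def gensC2_0 : List (List ℕ) :=
  [[3,0,1,2,0,2,1,3,0,3,1,2,3,0,3],
   [3,1,2,0,2,0,3,1,0,2,1,0,1,0,2,0,3,1],
   [0,1,0,3,1,0,3,2,0,1,3,0,1,0,3,2,0,2,3,0,3,0,1],
   [2,1,0,2,0,1,0,3,2,0,1,3,2,1,0,1,3,0,2,3,0,1]]

def gensC2 : List (List ℕ) :=
  gensC2_0

def levC2 : Lev := ⟨25, gensC2, orbC2⟩

def orbC3_0 : List (ℕ × ℕ × ℕ) :=
  [(109, 0, 0), (26, 0, 1), (115, 109, 0), (50, 109, 1), (1, 26, 0), (76, 115, 0), (85, 115, 1)]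

def orbC3 : List (ℕ × ℕ × ℕ) :=
  orbC3_0

def gensC3_0 : List (List ℕ) :=
  [[2,3,1,0,3,2,0,2,0,3,0,1,0,3,0,2,0,1,2,3,2],
   [0,1,0,3,0,1,3,1,0,3,2,3,0,1,3,1,0,3,0,1]]

def gensC3 : List (List ℕ) :=
  gensC3_0

def levC3 : Lev := ⟨0, gensC3, orbC3⟩

/-- A chain of the centraliser. -/
def chainC : List Lev := [levC0, levC1, levC2, levC3]

def centGens_0 : List (List ℕ) :=
  [[3,1,0,1,0,1,3,1,2,0,2,0,1,3,0,1,2,0,1,3,0,1],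
   [0,2,1,3,0,3,1,2,0,2,3,0,1,3,1],
   [2,1,3,0,1,3,0,2,0,3,0,2,0,1,3,2,0,2,1,3,0],
   [1,3,2,0,3,0,2,1,3,0,1,3,1,2,0,2,0,3,1,0,1,0],
   [3,2,0,3,0,2,3,0,3,2,0,1,2,3,0,2,3],
   [3,0,1,2,0,2,1,3,0,3,1,2,3,0,3],
   [3,1,2,0,2,0,3,1,0,2,1,0,1,0,2,0,3,1],
   [0,1,0,3,1,0,3,2,0,1,3,0,1,0,3,2,0,2,3,0,3,0,1],
   [2,1,0,2,0,1,0,3,2,0,1,3,2,1,0,1,3,0,2,3,0,1],
   [2,3,1,0,3,2,0,2,0,3,0,1,0,3,0,2,0,1,2,3,2],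
   [0,1,0,3,0,1,3,1,0,3,2,3,0,1,3,1,0,3,0,1]]

def centGens : List (List ℕ) :=
  centGens_0

def centImgs_0 : List PP :=
  [(20769425119835816020237572607705093, 10384672945232298650295969209712643),
   (5192772232345653387347168115818503, 475371393029459819630271332353),
   (31153939612369716026468130355347463, 554600764469543208911626305538),
   (31153939611160790206853501180903428, 5192851459299204939144939314610178),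
   (31154098066276966701764454025199623, 554601973413809567610215530498),
   (10384593718278636418033772933742598, 10384593718278636418033772933742598),
   (25961642752626054810636002810658823, 316921112556242804252761784323),
   (36346157243950973656456803251519488, 36346157243950973656456803251519488),
   (10384593724323339303083196465610753, 20769583576160862996219783358185478),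
   (15576969809811700036948856670650368, 15576969809811700036948856670650368),
   (5192534547858165935411012068376578, 5192534547858165935411012068376578)]

def centImgs : List PP :=
  centImgs_0

def levI0 : Lev := ⟨0, [[0], [1], [2], [3], [4], [5], [6], [7], [8], [9], [10]], [(3, 0, 0), (1, 0, 1), (2, 0, 2), (6, 0, 5), (5, 3, 3), (4, 3, 5), (7, 3, 9)]⟩

def levI1 : Lev := ⟨1, [[7], [9], [1,8]], [(6, 1, 0), (4, 1, 2), (5, 6, 2), (2, 4, 0), (7, 5, 2), (3, 2, 2)]⟩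

def levI2 : Lev := ⟨4, [[7,9], [2,0,3], [2,4,0]], [(2, 4, 0), (7, 4, 2), (3, 7, 0), (5, 7, 1), (6, 3, 2)]⟩

def levI3 : Lev := ⟨3, [[2,8,2], [3,4,0]], [(2, 3, 0), (7, 3, 1), (6, 7, 1), (5, 6, 0)]⟩

def levI4 : Lev := ⟨2, [[1,8,1,8], [3,5,3,8]], [(7, 2, 1), (5, 7, 0), (6, 5, 0)]⟩

def levI5 : Lev := ⟨5, [[1,8,1,8]], [(6, 5, 0), (7, 6, 0)]⟩

/-- A chain of the images. -/
def chainI : List Lev := [levI0, levI1, levI2, levI3, levI4, levI5]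

/-- The fixed points. -/
def fixPts : List ℕ := [5,25,44,62,65,73,78,83,89,94,95,103,117,142,151,155,163,168,171,174,176,185,188,189,210,214,221,224,233,240,241,253,268,270,274]

/-- The bisection of eight things belonging to a fixed point, in fields of eight bits. -/
def fixPart : ℕ :=
  0x6500000099001d00000000000000000000000000008b0000000000000000000000174b0000000000006900000000000000002d0000870000000000004d00000093000000000000000000000000000000000000000095470000a50000000000000000e1005900008d00003500000000c90000000000000055000000d1000000000000000027000000000000000000000000000000000000000000000000a3000000000000000000000000003300000000000000c5c3000000007100000000001b0000000039000000000f00000000000000b10000a900000000000000000000000000000000002b0000000000000000000000000000000000005300000000000000000000000000000000000000630000000000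

def sylWords_0 : List (List ℕ) :=
  [[],
   [0],
   [1,3,2,0,3,2,3,0,1,0,3,2,3,0,2,3,1],
   [3,1,0,1,0,2,1,3,2,0,1,2,3,2,1,0,2,3,0,2,3,0],
   [3,1,0,2,3,0,3,1,0,1,0,1,3,2,1,0,3,2,3,1,0],
   [1,3,1,2,3,0,2,1,0,2,0,1,2,0,3,2,1,3,1],
   [0,1,3,2,0,3,2,3,0,1,0,3,2,3,0,2,3,1],
   [0,3,1,0,1,0,2,1,3,2,0,1,2,3,2,1,0,2,3,0,2,3,0],
   [0,3,1,0,2,3,0,3,1,0,1,0,1,3,2,1,0,3,2,3,1,0],
   [0,1,3,1,2,3,0,2,1,0,2,0,1,2,0,3,2,1,3,1],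
   [1,3,2,0,3,2,3,0,1,0,3,2,3,0,2,3,1,3,1,0,1,0,2,1,3,2,0,1,2,3,2,1,0,2,3,0,2,3,0],
   [1,3,2,0,3,2,3,0,1,0,3,2,3,0,2,3,1,3,1,0,2,3,0,3,1,0,1,0,1,3,2,1,0,3,2,3,1,0],
   [1,3,2,0,3,2,3,0,1,0,3,2,3,0,2,1,2,3,0,2,1,0,2,0,1,2,0,3,2,1,3,1],
   [3,1,0,1,0,2,1,3,2,0,1,2,3,2,1,0,2,3,0,2,3,0,1,3,2,0,3,2,3,0,1,0,3,2,3,0,2,3,1],
   [3,1,0,1,0,2,1,3,2,0,1,2,3,2,1,0,2,3,0,2,3,0,3,1,0,1,0,2,1,3,2,0,1,2,3,2,1,0,2,3,0,2,3,0],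
   [3,1,0,1,0,2,1,3,2,0,1,2,3,2,1,0,2,3,0,2,3,0,3,1,0,2,3,0,3,1,0,1,0,1,3,2,1,0,3,2,3,1,0],
   [3,1,0,1,0,2,1,3,2,0,1,2,3,2,1,0,2,3,0,2,3,0,1,3,1,2,3,0,2,1,0,2,0,1,2,0,3,2,1,3,1],
   [3,1,0,2,3,0,3,1,0,1,0,1,3,2,1,0,3,2,3,1,0,1,3,2,0,3,2,3,0,1,0,3,2,3,0,2,3,1],
   [3,1,0,2,3,0,3,1,0,1,0,1,3,2,1,0,3,2,3,1,0,3,1,0,1,0,2,1,3,2,0,1,2,3,2,1,0,2,3,0,2,3,0],
   [3,1,0,2,3,0,3,1,0,1,0,1,3,2,1,0,3,2,3,1,0,3,1,0,2,3,0,3,1,0,1,0,1,3,2,1,0,3,2,3,1,0],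
   [3,1,0,2,3,0,3,1,0,1,0,1,3,2,1,0,3,2,3,1,0,1,3,1,2,3,0,2,1,0,2,0,1,2,0,3,2,1,3,1],
   [1,3,1,2,3,0,2,1,0,2,0,1,2,0,3,2,1,2,0,3,2,3,0,1,0,3,2,3,0,2,3,1],
   [1,3,1,2,3,0,2,1,0,2,0,1,2,0,3,2,1,3,1,3,1,0,1,0,2,1,3,2,0,1,2,3,2,1,0,2,3,0,2,3,0],
   [1,3,1,2,3,0,2,1,0,2,0,1,2,0,3,2,1,3,1,3,1,0,2,3,0,3,1,0,1,0,1,3,2,1,0,3,2,3,1,0],
   [0,1,3,2,0,3,2,3,0,1,0,3,2,3,0,2,3,1,3,1,0,1,0,2,1,3,2,0,1,2,3,2,1,0,2,3,0,2,3,0],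
   [0,1,3,2,0,3,2,3,0,1,0,3,2,3,0,2,3,1,3,1,0,2,3,0,3,1,0,1,0,1,3,2,1,0,3,2,3,1,0],
   [0,1,3,2,0,3,2,3,0,1,0,3,2,3,0,2,1,2,3,0,2,1,0,2,0,1,2,0,3,2,1,3,1],
   [0,3,1,0,1,0,2,1,3,2,0,1,2,3,2,1,0,2,3,0,2,3,0,1,3,2,0,3,2,3,0,1,0,3,2,3,0,2,3,1],
   [0,3,1,0,1,0,2,1,3,2,0,1,2,3,2,1,0,2,3,0,2,3,0,3,1,0,1,0,2,1,3,2,0,1,2,3,2,1,0,2,3,0,2,3,0],
   [0,3,1,0,1,0,2,1,3,2,0,1,2,3,2,1,0,2,3,0,2,3,0,3,1,0,2,3,0,3,1,0,1,0,1,3,2,1,0,3,2,3,1,0],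
   [0,3,1,0,1,0,2,1,3,2,0,1,2,3,2,1,0,2,3,0,2,3,0,1,3,1,2,3,0,2,1,0,2,0,1,2,0,3,2,1,3,1],
   [0,3,1,0,2,3,0,3,1,0,1,0,1,3,2,1,0,3,2,3,1,0,1,3,2,0,3,2,3,0,1,0,3,2,3,0,2,3,1]]

def sylWords_1 : List (List ℕ) :=
  [[0,3,1,0,2,3,0,3,1,0,1,0,1,3,2,1,0,3,2,3,1,0,3,1,0,1,0,2,1,3,2,0,1,2,3,2,1,0,2,3,0,2,3,0],
   [0,3,1,0,2,3,0,3,1,0,1,0,1,3,2,1,0,3,2,3,1,0,3,1,0,2,3,0,3,1,0,1,0,1,3,2,1,0,3,2,3,1,0],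
   [0,3,1,0,2,3,0,3,1,0,1,0,1,3,2,1,0,3,2,3,1,0,1,3,1,2,3,0,2,1,0,2,0,1,2,0,3,2,1,3,1],
   [0,1,3,1,2,3,0,2,1,0,2,0,1,2,0,3,2,1,2,0,3,2,3,0,1,0,3,2,3,0,2,3,1],
   [0,1,3,1,2,3,0,2,1,0,2,0,1,2,0,3,2,1,3,1,3,1,0,1,0,2,1,3,2,0,1,2,3,2,1,0,2,3,0,2,3,0],
   [0,1,3,1,2,3,0,2,1,0,2,0,1,2,0,3,2,1,3,1,3,1,0,2,3,0,3,1,0,1,0,1,3,2,1,0,3,2,3,1,0],
   [1,3,2,0,3,2,3,0,1,0,3,2,3,0,2,3,1,3,1,0,1,0,2,1,3,2,0,1,2,3,2,1,0,2,3,0,2,3,0,1,3,2,0,3,2,3,0,1,0,3,2,3,0,2,3,1],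
   [1,3,2,0,3,2,3,0,1,0,3,2,3,0,2,3,1,3,1,0,1,0,2,1,3,2,0,1,2,3,2,1,0,2,3,0,2,3,0,3,1,0,1,0,2,1,3,2,0,1,2,3,2,1,0,2,3,0,2,3,0],
   [1,3,2,0,3,2,3,0,1,0,3,2,3,0,2,3,1,3,1,0,1,0,2,1,3,2,0,1,2,3,2,1,0,2,3,0,2,3,0,3,1,0,2,3,0,3,1,0,1,0,1,3,2,1,0,3,2,3,1,0],
   [1,3,2,0,3,2,3,0,1,0,3,2,3,0,2,3,1,3,1,0,1,0,2,1,3,2,0,1,2,3,2,1,0,2,3,0,2,3,0,1,3,1,2,3,0,2,1,0,2,0,1,2,0,3,2,1,3,1],
   [1,3,2,0,3,2,3,0,1,0,3,2,3,0,2,3,1,3,1,0,2,3,0,3,1,0,1,0,1,3,2,1,0,3,2,3,1,0,1,3,2,0,3,2,3,0,1,0,3,2,3,0,2,3,1],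
   [1,3,2,0,3,2,3,0,1,0,3,2,3,0,2,3,1,3,1,0,2,3,0,3,1,0,1,0,1,3,2,1,0,3,2,3,1,0,3,1,0,1,0,2,1,3,2,0,1,2,3,2,1,0,2,3,0,2,3,0],
   [1,3,2,0,3,2,3,0,1,0,3,2,3,0,2,3,1,3,1,0,2,3,0,3,1,0,1,0,1,3,2,1,0,3,2,3,1,0,3,1,0,2,3,0,3,1,0,1,0,1,3,2,1,0,3,2,3,1,0],
   [1,3,2,0,3,2,3,0,1,0,3,2,3,0,2,3,1,3,1,0,2,3,0,3,1,0,1,0,1,3,2,1,0,3,2,3,1,0,1,3,1,2,3,0,2,1,0,2,0,1,2,0,3,2,1,3,1],
   [1,3,2,0,3,2,3,0,1,0,3,2,3,0,2,1,2,3,0,2,1,0,2,0,1,2,0,3,2,1,2,0,3,2,3,0,1,0,3,2,3,0,2,3,1],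
   [1,3,2,0,3,2,3,0,1,0,3,2,3,0,2,1,2,3,0,2,1,0,2,0,1,2,0,3,2,1,3,1,3,1,0,1,0,2,1,3,2,0,1,2,3,2,1,0,2,3,0,2,3,0],
   [1,3,2,0,3,2,3,0,1,0,3,2,3,0,2,1,2,3,0,2,1,0,2,0,1,2,0,3,2,1,3,1,3,1,0,2,3,0,3,1,0,1,0,1,3,2,1,0,3,2,3,1,0],
   [3,1,0,1,0,2,1,3,2,0,1,2,3,2,1,0,2,3,0,2,3,0,1,3,2,0,3,2,3,0,1,0,3,2,3,0,2,1,2,3,0,2,1,0,2,0,1,2,0,3,2,1,3,1],
   [3,1,0,1,0,2,1,3,2,0,1,2,3,2,1,0,2,3,0,2,3,0,3,1,0,1,0,2,1,3,2,0,1,2,3,2,1,0,2,3,0,2,3,0,1,3,2,0,3,2,3,0,1,0,3,2,3,0,2,3,1],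
   [3,1,0,1,0,2,1,3,2,0,1,2,3,2,1,0,2,3,0,2,3,0,3,1,0,1,0,2,1,3,2,0,1,2,3,2,1,0,2,3,0,2,3,0,3,1,0,1,0,2,1,3,2,0,1,2,3,2,1,0,2,3,0,2,3,0],
   [3,1,0,1,0,2,1,3,2,0,1,2,3,2,1,0,2,3,0,2,3,0,3,1,0,1,0,2,1,3,2,0,1,2,3,2,1,0,2,3,0,2,3,0,3,1,0,2,3,0,3,1,0,1,0,1,3,2,1,0,3,2,3,1,0],
   [3,1,0,1,0,2,1,3,2,0,1,2,3,2,1,0,2,3,0,2,3,0,3,1,0,1,0,2,1,3,2,0,1,2,3,2,1,0,2,3,0,2,3,0,1,3,1,2,3,0,2,1,0,2,0,1,2,0,3,2,1,3,1],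
   [3,1,0,1,0,2,1,3,2,0,1,2,3,2,1,0,2,3,0,2,3,0,3,1,0,2,3,0,3,1,0,1,0,1,3,2,1,0,3,2,3,1,0,1,3,2,0,3,2,3,0,1,0,3,2,3,0,2,3,1],
   [3,1,0,1,0,2,1,3,2,0,1,2,3,2,1,0,2,3,0,2,3,0,3,1,0,2,3,0,3,1,0,1,0,1,3,2,1,0,3,2,3,1,0,3,1,0,1,0,2,1,3,2,0,1,2,3,2,1,0,2,3,0,2,3,0],
   [3,1,0,1,0,2,1,3,2,0,1,2,3,2,1,0,2,3,0,2,3,0,3,1,0,2,3,0,3,1,0,1,0,1,3,2,1,0,3,2,3,1,0,3,1,0,2,3,0,3,1,0,1,0,1,3,2,1,0,3,2,3,1,0],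
   [3,1,0,1,0,2,1,3,2,0,1,2,3,2,1,0,2,3,0,2,3,0,3,1,0,2,3,0,3,1,0,1,0,1,3,2,1,0,3,2,3,1,0,1,3,1,2,3,0,2,1,0,2,0,1,2,0,3,2,1,3,1],
   [3,1,0,1,0,2,1,3,2,0,1,2,3,2,1,0,2,3,0,2,3,0,1,3,1,2,3,0,2,1,0,2,0,1,2,0,3,2,1,2,0,3,2,3,0,1,0,3,2,3,0,2,3,1],
   [3,1,0,1,0,2,1,3,2,0,1,2,3,2,1,0,2,3,0,2,3,0,1,3,1,2,3,0,2,1,0,2,0,1,2,0,3,2,1,3,1,3,1,0,2,3,0,3,1,0,1,0,1,3,2,1,0,3,2,3,1,0],
   [3,1,0,2,3,0,3,1,0,1,0,1,3,2,1,0,3,2,3,1,0,1,3,2,0,3,2,3,0,1,0,3,2,3,0,2,1,2,3,0,2,1,0,2,0,1,2,0,3,2,1,3,1],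
   [3,1,0,2,3,0,3,1,0,1,0,1,3,2,1,0,3,2,3,1,0,3,1,0,1,0,2,1,3,2,0,1,2,3,2,1,0,2,3,0,2,3,0,1,3,2,0,3,2,3,0,1,0,3,2,3,0,2,3,1],
   [3,1,0,2,3,0,3,1,0,1,0,1,3,2,1,0,3,2,3,1,0,3,1,0,1,0,2,1,3,2,0,1,2,3,2,1,0,2,3,0,2,3,0,3,1,0,1,0,2,1,3,2,0,1,2,3,2,1,0,2,3,0,2,3,0],
   [3,1,0,2,3,0,3,1,0,1,0,1,3,2,1,0,3,2,3,1,0,3,1,0,1,0,2,1,3,2,0,1,2,3,2,1,0,2,3,0,2,3,0,3,1,0,2,3,0,3,1,0,1,0,1,3,2,1,0,3,2,3,1,0]]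

def sylWords_2 : List (List ℕ) :=
  [[3,1,0,2,3,0,3,1,0,1,0,1,3,2,1,0,3,2,3,1,0,3,1,0,1,0,2,1,3,2,0,1,2,3,2,1,0,2,3,0,2,3,0,1,3,1,2,3,0,2,1,0,2,0,1,2,0,3,2,1,3,1],
   [3,1,0,2,3,0,3,1,0,1,0,1,3,2,1,0,3,2,3,1,0,3,1,0,2,3,0,3,1,0,1,0,1,3,2,1,0,3,2,3,1,0,1,3,2,0,3,2,3,0,1,0,3,2,3,0,2,3,1],
   [3,1,0,2,3,0,3,1,0,1,0,1,3,2,1,0,3,2,3,1,0,3,1,0,2,3,0,3,1,0,1,0,1,3,2,1,0,3,2,3,1,0,3,1,0,1,0,2,1,3,2,0,1,2,3,2,1,0,2,3,0,2,3,0],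
   [3,1,0,2,3,0,3,1,0,1,0,1,3,2,1,0,3,2,3,1,0,3,1,0,2,3,0,3,1,0,1,0,1,3,2,1,0,3,2,3,1,0,3,1,0,2,3,0,3,1,0,1,0,1,3,2,1,0,3,2,3,1,0],
   [3,1,0,2,3,0,3,1,0,1,0,1,3,2,1,0,3,2,3,1,0,3,1,0,2,3,0,3,1,0,1,0,1,3,2,1,0,3,2,3,1,0,1,3,1,2,3,0,2,1,0,2,0,1,2,0,3,2,1,3,1],
   [3,1,0,2,3,0,3,1,0,1,0,1,3,2,1,0,3,2,3,1,0,1,3,1,2,3,0,2,1,0,2,0,1,2,0,3,2,1,2,0,3,2,3,0,1,0,3,2,3,0,2,3,1],
   [3,1,0,2,3,0,3,1,0,1,0,1,3,2,1,0,3,2,3,1,0,1,3,1,2,3,0,2,1,0,2,0,1,2,0,3,2,1,3,1,3,1,0,1,0,2,1,3,2,0,1,2,3,2,1,0,2,3,0,2,3,0],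
   [1,3,1,2,3,0,2,1,0,2,0,1,2,0,3,2,1,2,0,3,2,3,0,1,0,3,2,3,0,2,3,1,3,1,0,1,0,2,1,3,2,0,1,2,3,2,1,0,2,3,0,2,3,0],
   [1,3,1,2,3,0,2,1,0,2,0,1,2,0,3,2,1,2,0,3,2,3,0,1,0,3,2,3,0,2,3,1,3,1,0,2,3,0,3,1,0,1,0,1,3,2,1,0,3,2,3,1,0],
   [1,3,1,2,3,0,2,1,0,2,0,1,2,0,3,2,1,2,0,3,2,3,0,1,0,3,2,3,0,2,1,2,3,0,2,1,0,2,0,1,2,0,3,2,1,3,1],
   [1,3,1,2,3,0,2,1,0,2,0,1,2,0,3,2,1,3,1,3,1,0,1,0,2,1,3,2,0,1,2,3,2,1,0,2,3,0,2,3,0,3,1,0,1,0,2,1,3,2,0,1,2,3,2,1,0,2,3,0,2,3,0],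
   [1,3,1,2,3,0,2,1,0,2,0,1,2,0,3,2,1,3,1,3,1,0,1,0,2,1,3,2,0,1,2,3,2,1,0,2,3,0,2,3,0,3,1,0,2,3,0,3,1,0,1,0,1,3,2,1,0,3,2,3,1,0],
   [1,3,1,2,3,0,2,1,0,2,0,1,2,0,3,2,1,3,1,3,1,0,1,0,2,1,3,2,0,1,2,3,2,1,0,2,3,0,2,3,0,1,3,1,2,3,0,2,1,0,2,0,1,2,0,3,2,1,3,1],
   [1,3,1,2,3,0,2,1,0,2,0,1,2,0,3,2,1,3,1,3,1,0,2,3,0,3,1,0,1,0,1,3,2,1,0,3,2,3,1,0,3,1,0,1,0,2,1,3,2,0,1,2,3,2,1,0,2,3,0,2,3,0],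
   [0,1,3,2,0,3,2,3,0,1,0,3,2,3,0,2,3,1,3,1,0,1,0,2,1,3,2,0,1,2,3,2,1,0,2,3,0,2,3,0,1,3,2,0,3,2,3,0,1,0,3,2,3,0,2,3,1],
   [0,1,3,2,0,3,2,3,0,1,0,3,2,3,0,2,3,1,3,1,0,2,3,0,3,1,0,1,0,1,3,2,1,0,3,2,3,1,0,1,3,2,0,3,2,3,0,1,0,3,2,3,0,2,3,1],
   [0,1,3,2,0,3,2,3,0,1,0,3,2,3,0,2,1,2,3,0,2,1,0,2,0,1,2,0,3,2,1,2,0,3,2,3,0,1,0,3,2,3,0,2,3,1],
   [0,1,3,2,0,3,2,3,0,1,0,3,2,3,0,2,1,2,3,0,2,1,0,2,0,1,2,0,3,2,1,3,1,3,1,0,1,0,2,1,3,2,0,1,2,3,2,1,0,2,3,0,2,3,0],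
   [0,1,3,2,0,3,2,3,0,1,0,3,2,3,0,2,1,2,3,0,2,1,0,2,0,1,2,0,3,2,1,3,1,3,1,0,2,3,0,3,1,0,1,0,1,3,2,1,0,3,2,3,1,0],
   [0,3,1,0,1,0,2,1,3,2,0,1,2,3,2,1,0,2,3,0,2,3,0,1,3,2,0,3,2,3,0,1,0,3,2,3,0,2,1,2,3,0,2,1,0,2,0,1,2,0,3,2,1,3,1],
   [0,3,1,0,1,0,2,1,3,2,0,1,2,3,2,1,0,2,3,0,2,3,0,3,1,0,1,0,2,1,3,2,0,1,2,3,2,1,0,2,3,0,2,3,0,3,1,0,1,0,2,1,3,2,0,1,2,3,2,1,0,2,3,0,2,3,0],
   [0,3,1,0,1,0,2,1,3,2,0,1,2,3,2,1,0,2,3,0,2,3,0,3,1,0,1,0,2,1,3,2,0,1,2,3,2,1,0,2,3,0,2,3,0,3,1,0,2,3,0,3,1,0,1,0,1,3,2,1,0,3,2,3,1,0],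
   [0,3,1,0,1,0,2,1,3,2,0,1,2,3,2,1,0,2,3,0,2,3,0,3,1,0,1,0,2,1,3,2,0,1,2,3,2,1,0,2,3,0,2,3,0,1,3,1,2,3,0,2,1,0,2,0,1,2,0,3,2,1,3,1],
   [0,3,1,0,1,0,2,1,3,2,0,1,2,3,2,1,0,2,3,0,2,3,0,3,1,0,2,3,0,3,1,0,1,0,1,3,2,1,0,3,2,3,1,0,3,1,0,1,0,2,1,3,2,0,1,2,3,2,1,0,2,3,0,2,3,0],
   [0,3,1,0,1,0,2,1,3,2,0,1,2,3,2,1,0,2,3,0,2,3,0,1,3,1,2,3,0,2,1,0,2,0,1,2,0,3,2,1,3,1,3,1,0,2,3,0,3,1,0,1,0,1,3,2,1,0,3,2,3,1,0],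
   [0,3,1,0,2,3,0,3,1,0,1,0,1,3,2,1,0,3,2,3,1,0,1,3,2,0,3,2,3,0,1,0,3,2,3,0,2,1,2,3,0,2,1,0,2,0,1,2,0,3,2,1,3,1],
   [0,3,1,0,2,3,0,3,1,0,1,0,1,3,2,1,0,3,2,3,1,0,3,1,0,1,0,2,1,3,2,0,1,2,3,2,1,0,2,3,0,2,3,0,3,1,0,1,0,2,1,3,2,0,1,2,3,2,1,0,2,3,0,2,3,0],
   [0,3,1,0,2,3,0,3,1,0,1,0,1,3,2,1,0,3,2,3,1,0,3,1,0,1,0,2,1,3,2,0,1,2,3,2,1,0,2,3,0,2,3,0,3,1,0,2,3,0,3,1,0,1,0,1,3,2,1,0,3,2,3,1,0],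
   [0,3,1,0,2,3,0,3,1,0,1,0,1,3,2,1,0,3,2,3,1,0,3,1,0,1,0,2,1,3,2,0,1,2,3,2,1,0,2,3,0,2,3,0,1,3,1,2,3,0,2,1,0,2,0,1,2,0,3,2,1,3,1],
   [0,3,1,0,2,3,0,3,1,0,1,0,1,3,2,1,0,3,2,3,1,0,3,1,0,2,3,0,3,1,0,1,0,1,3,2,1,0,3,2,3,1,0,3,1,0,1,0,2,1,3,2,0,1,2,3,2,1,0,2,3,0,2,3,0],
   [0,3,1,0,2,3,0,3,1,0,1,0,1,3,2,1,0,3,2,3,1,0,3,1,0,2,3,0,3,1,0,1,0,1,3,2,1,0,3,2,3,1,0,3,1,0,2,3,0,3,1,0,1,0,1,3,2,1,0,3,2,3,1,0],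
   [0,3,1,0,2,3,0,3,1,0,1,0,1,3,2,1,0,3,2,3,1,0,3,1,0,2,3,0,3,1,0,1,0,1,3,2,1,0,3,2,3,1,0,1,3,1,2,3,0,2,1,0,2,0,1,2,0,3,2,1,3,1]]

def sylWords_3 : List (List ℕ) :=
  [[0,3,1,0,2,3,0,3,1,0,1,0,1,3,2,1,0,3,2,3,1,0,1,3,1,2,3,0,2,1,0,2,0,1,2,0,3,2,1,3,1,3,1,0,1,0,2,1,3,2,0,1,2,3,2,1,0,2,3,0,2,3,0],
   [0,1,3,1,2,3,0,2,1,0,2,0,1,2,0,3,2,1,2,0,3,2,3,0,1,0,3,2,3,0,2,3,1,3,1,0,1,0,2,1,3,2,0,1,2,3,2,1,0,2,3,0,2,3,0],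
   [0,1,3,1,2,3,0,2,1,0,2,0,1,2,0,3,2,1,2,0,3,2,3,0,1,0,3,2,3,0,2,3,1,3,1,0,2,3,0,3,1,0,1,0,1,3,2,1,0,3,2,3,1,0],
   [0,1,3,1,2,3,0,2,1,0,2,0,1,2,0,3,2,1,2,0,3,2,3,0,1,0,3,2,3,0,2,1,2,3,0,2,1,0,2,0,1,2,0,3,2,1,3,1],
   [0,1,3,1,2,3,0,2,1,0,2,0,1,2,0,3,2,1,3,1,3,1,0,1,0,2,1,3,2,0,1,2,3,2,1,0,2,3,0,2,3,0,3,1,0,1,0,2,1,3,2,0,1,2,3,2,1,0,2,3,0,2,3,0],
   [0,1,3,1,2,3,0,2,1,0,2,0,1,2,0,3,2,1,3,1,3,1,0,2,3,0,3,1,0,1,0,1,3,2,1,0,3,2,3,1,0,3,1,0,1,0,2,1,3,2,0,1,2,3,2,1,0,2,3,0,2,3,0],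
   [1,3,2,0,3,2,3,0,1,0,3,2,3,0,2,3,1,3,1,0,1,0,2,1,3,2,0,1,2,3,2,1,0,2,3,0,2,3,0,1,3,2,0,3,2,3,0,1,0,3,2,3,0,2,1,2,3,0,2,1,0,2,0,1,2,0,3,2,1,3,1],
   [1,3,2,0,3,2,3,0,1,0,3,2,3,0,2,3,1,3,1,0,1,0,2,1,3,2,0,1,2,3,2,1,0,2,3,0,2,3,0,3,1,0,1,0,2,1,3,2,0,1,2,3,2,1,0,2,3,0,2,3,0,1,3,1,2,3,0,2,1,0,2,0,1,2,0,3,2,1,3,1],
   [1,3,2,0,3,2,3,0,1,0,3,2,3,0,2,3,1,3,1,0,1,0,2,1,3,2,0,1,2,3,2,1,0,2,3,0,2,3,0,1,3,1,2,3,0,2,1,0,2,0,1,2,0,3,2,1,3,1,3,1,0,2,3,0,3,1,0,1,0,1,3,2,1,0,3,2,3,1,0],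
   [1,3,2,0,3,2,3,0,1,0,3,2,3,0,2,3,1,3,1,0,2,3,0,3,1,0,1,0,1,3,2,1,0,3,2,3,1,0,1,3,2,0,3,2,3,0,1,0,3,2,3,0,2,1,2,3,0,2,1,0,2,0,1,2,0,3,2,1,3,1],
   [1,3,2,0,3,2,3,0,1,0,3,2,3,0,2,3,1,3,1,0,2,3,0,3,1,0,1,0,1,3,2,1,0,3,2,3,1,0,3,1,0,1,0,2,1,3,2,0,1,2,3,2,1,0,2,3,0,2,3,0,1,3,1,2,3,0,2,1,0,2,0,1,2,0,3,2,1,3,1],
   [1,3,2,0,3,2,3,0,1,0,3,2,3,0,2,3,1,3,1,0,2,3,0,3,1,0,1,0,1,3,2,1,0,3,2,3,1,0,1,3,1,2,3,0,2,1,0,2,0,1,2,0,3,2,1,3,1,3,1,0,1,0,2,1,3,2,0,1,2,3,2,1,0,2,3,0,2,3,0],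
   [1,3,2,0,3,2,3,0,1,0,3,2,3,0,2,1,2,3,0,2,1,0,2,0,1,2,0,3,2,1,2,0,3,2,3,0,1,0,3,2,3,0,2,3,1,3,1,0,1,0,2,1,3,2,0,1,2,3,2,1,0,2,3,0,2,3,0],
   [1,3,2,0,3,2,3,0,1,0,3,2,3,0,2,1,2,3,0,2,1,0,2,0,1,2,0,3,2,1,2,0,3,2,3,0,1,0,3,2,3,0,2,3,1,3,1,0,2,3,0,3,1,0,1,0,1,3,2,1,0,3,2,3,1,0],
   [1,3,2,0,3,2,3,0,1,0,3,2,3,0,2,1,2,3,0,2,1,0,2,0,1,2,0,3,2,1,2,0,3,2,3,0,1,0,3,2,3,0,2,1,2,3,0,2,1,0,2,0,1,2,0,3,2,1,3,1],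
   [3,1,0,1,0,2,1,3,2,0,1,2,3,2,1,0,2,3,0,2,3,0,1,3,2,0,3,2,3,0,1,0,3,2,3,0,2,1,2,3,0,2,1,0,2,0,1,2,0,3,2,1,2,0,3,2,3,0,1,0,3,2,3,0,2,3,1],
   [3,1,0,1,0,2,1,3,2,0,1,2,3,2,1,0,2,3,0,2,3,0,3,1,0,1,0,2,1,3,2,0,1,2,3,2,1,0,2,3,0,2,3,0,1,3,2,0,3,2,3,0,1,0,3,2,3,0,2,1,2,3,0,2,1,0,2,0,1,2,0,3,2,1,3,1],
   [3,1,0,1,0,2,1,3,2,0,1,2,3,2,1,0,2,3,0,2,3,0,3,1,0,1,0,2,1,3,2,0,1,2,3,2,1,0,2,3,0,2,3,0,3,1,0,1,0,2,1,3,2,0,1,2,3,2,1,0,2,3,0,2,3,0,3,1,0,2,3,0,3,1,0,1,0,1,3,2,1,0,3,2,3,1,0],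
   [3,1,0,1,0,2,1,3,2,0,1,2,3,2,1,0,2,3,0,2,3,0,3,1,0,1,0,2,1,3,2,0,1,2,3,2,1,0,2,3,0,2,3,0,3,1,0,2,3,0,3,1,0,1,0,1,3,2,1,0,3,2,3,1,0,3,1,0,1,0,2,1,3,2,0,1,2,3,2,1,0,2,3,0,2,3,0],
   [3,1,0,1,0,2,1,3,2,0,1,2,3,2,1,0,2,3,0,2,3,0,3,1,0,2,3,0,3,1,0,1,0,1,3,2,1,0,3,2,3,1,0,3,1,0,1,0,2,1,3,2,0,1,2,3,2,1,0,2,3,0,2,3,0,3,1,0,1,0,2,1,3,2,0,1,2,3,2,1,0,2,3,0,2,3,0],
   [3,1,0,1,0,2,1,3,2,0,1,2,3,2,1,0,2,3,0,2,3,0,3,1,0,2,3,0,3,1,0,1,0,1,3,2,1,0,3,2,3,1,0,3,1,0,1,0,2,1,3,2,0,1,2,3,2,1,0,2,3,0,2,3,0,3,1,0,2,3,0,3,1,0,1,0,1,3,2,1,0,3,2,3,1,0],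
   [3,1,0,1,0,2,1,3,2,0,1,2,3,2,1,0,2,3,0,2,3,0,3,1,0,2,3,0,3,1,0,1,0,1,3,2,1,0,3,2,3,1,0,3,1,0,1,0,2,1,3,2,0,1,2,3,2,1,0,2,3,0,2,3,0,1,3,1,2,3,0,2,1,0,2,0,1,2,0,3,2,1,3,1],
   [3,1,0,1,0,2,1,3,2,0,1,2,3,2,1,0,2,3,0,2,3,0,3,1,0,2,3,0,3,1,0,1,0,1,3,2,1,0,3,2,3,1,0,3,1,0,2,3,0,3,1,0,1,0,1,3,2,1,0,3,2,3,1,0,3,1,0,2,3,0,3,1,0,1,0,1,3,2,1,0,3,2,3,1,0],
   [3,1,0,1,0,2,1,3,2,0,1,2,3,2,1,0,2,3,0,2,3,0,1,3,1,2,3,0,2,1,0,2,0,1,2,0,3,2,1,2,0,3,2,3,0,1,0,3,2,3,0,2,3,1,3,1,0,2,3,0,3,1,0,1,0,1,3,2,1,0,3,2,3,1,0],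
   [3,1,0,2,3,0,3,1,0,1,0,1,3,2,1,0,3,2,3,1,0,1,3,2,0,3,2,3,0,1,0,3,2,3,0,2,1,2,3,0,2,1,0,2,0,1,2,0,3,2,1,2,0,3,2,3,0,1,0,3,2,3,0,2,3,1],
   [3,1,0,2,3,0,3,1,0,1,0,1,3,2,1,0,3,2,3,1,0,3,1,0,1,0,2,1,3,2,0,1,2,3,2,1,0,2,3,0,2,3,0,1,3,2,0,3,2,3,0,1,0,3,2,3,0,2,1,2,3,0,2,1,0,2,0,1,2,0,3,2,1,3,1],
   [3,1,0,2,3,0,3,1,0,1,0,1,3,2,1,0,3,2,3,1,0,3,1,0,1,0,2,1,3,2,0,1,2,3,2,1,0,2,3,0,2,3,0,3,1,0,1,0,2,1,3,2,0,1,2,3,2,1,0,2,3,0,2,3,0,3,1,0,1,0,2,1,3,2,0,1,2,3,2,1,0,2,3,0,2,3,0],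
   [3,1,0,2,3,0,3,1,0,1,0,1,3,2,1,0,3,2,3,1,0,3,1,0,1,0,2,1,3,2,0,1,2,3,2,1,0,2,3,0,2,3,0,3,1,0,2,3,0,3,1,0,1,0,1,3,2,1,0,3,2,3,1,0,3,1,0,2,3,0,3,1,0,1,0,1,3,2,1,0,3,2,3,1,0],
   [3,1,0,2,3,0,3,1,0,1,0,1,3,2,1,0,3,2,3,1,0,3,1,0,2,3,0,3,1,0,1,0,1,3,2,1,0,3,2,3,1,0,3,1,0,1,0,2,1,3,2,0,1,2,3,2,1,0,2,3,0,2,3,0,3,1,0,2,3,0,3,1,0,1,0,1,3,2,1,0,3,2,3,1,0],
   [3,1,0,2,3,0,3,1,0,1,0,1,3,2,1,0,3,2,3,1,0,3,1,0,2,3,0,3,1,0,1,0,1,3,2,1,0,3,2,3,1,0,3,1,0,2,3,0,3,1,0,1,0,1,3,2,1,0,3,2,3,1,0,3,1,0,1,0,2,1,3,2,0,1,2,3,2,1,0,2,3,0,2,3,0],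
   [3,1,0,2,3,0,3,1,0,1,0,1,3,2,1,0,3,2,3,1,0,1,3,1,2,3,0,2,1,0,2,0,1,2,0,3,2,1,2,0,3,2,3,0,1,0,3,2,3,0,2,3,1,3,1,0,1,0,2,1,3,2,0,1,2,3,2,1,0,2,3,0,2,3,0],
   [0,1,3,2,0,3,2,3,0,1,0,3,2,3,0,2,1,2,3,0,2,1,0,2,0,1,2,0,3,2,1,2,0,3,2,3,0,1,0,3,2,3,0,2,3,1,3,1,0,1,0,2,1,3,2,0,1,2,3,2,1,0,2,3,0,2,3,0]]

def sylWords : List (List ℕ) :=
  sylWords_0 ++ sylWords_1 ++ sylWords_2 ++ sylWords_3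

def sylGens_0 : List (List ℕ) :=
  [[0],
   [1,3,2,0,3,2,3,0,1,0,3,2,3,0,2,3,1],
   [3,1,0,1,0,2,1,3,2,0,1,2,3,2,1,0,2,3,0,2,3,0],
   [3,1,0,2,3,0,3,1,0,1,0,1,3,2,1,0,3,2,3,1,0],
   [1,3,1,2,3,0,2,1,0,2,0,1,2,0,3,2,1,3,1]]

def sylGens : List (List ℕ) :=
  sylGens_0

def sylMul_0 : List (List ℕ) :=
  [[1,2,3,4,5], [0,6,7,8,9], [6,0,10,11,12], [7,13,14,15,16], [8,17,18,19,20], [9,21,22,23,0], [2,1,24,25,26], [3,27,28,29,30],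
   [4,31,32,33,34], [5,35,36,37,1], [24,38,39,40,41], [25,42,43,44,45], [26,46,47,48,2], [27,3,19,18,49], [28,50,51,52,53], [29,54,55,56,57],
   [30,58,35,59,3], [31,4,15,14,60], [32,61,62,63,64], [33,65,66,67,68], [34,69,70,5,4], [35,5,71,72,73], [36,47,74,75,76], [37,48,77,68,67],
   [10,78,50,54,58], [11,79,61,65,69], [12,80,81,82,6], [13,7,33,32,83], [14,39,84,85,86], [15,40,87,76,75], [16,41,21,88,7], [17,8,29,28,89],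
   [18,43,90,91,92], [19,44,93,94,95], [20,45,96,9,8], [21,9,97,98,99], [22,81,100,57,56], [23,82,101,95,94], [78,10,44,43,102], [50,28,76,87,103],
   [54,29,85,84,101], [58,30,80,104,10], [79,11,40,39,105], [61,32,94,93,106], [65,33,91,90,74], [69,34,107,12,11], [80,12,108,109,110], [81,22,68,77,51],
   [82,23,75,74,90], [83,111,9,96,13], [39,14,56,55,112], [84,93,1,113,47], [85,94,114,73,72], [86,95,41,60,14], [40,15,52,51,77], [87,90,115,116,117],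
   [76,91,2,118,36], [75,92,105,16,15], [41,16,46,119,24], [88,96,37,36,118], [89,120,88,21,17], [43,18,67,66,121], [90,87,122,6,82], [91,76,110,123,97]]

def sylMul_1 : List (List ℕ) :=
  [[92,75,45,49,18], [44,19,63,62,100], [93,84,99,124,108], [94,85,125,0,23], [95,86,102,20,19], [45,20,126,26,25], [96,88,72,71,115], [97,108,103,92,91],
   [98,109,121,53,52], [99,110,13,17,21], [100,112,49,45,44], [57,64,120,30,29], [56,63,6,122,22], [101,106,89,58,54], [38,24,65,61,111], [42,25,54,50,120],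
   [46,26,127,117,116], [47,36,95,101,84], [48,37,57,100,62], [49,102,5,70,27], [51,66,0,125,81], [52,67,124,99,98], [53,68,58,89,28], [55,62,123,110,109],
   [59,70,23,22,122], [60,105,59,35,31], [62,55,118,2,48], [63,56,116,115,71], [64,57,69,83,32], [66,51,73,114,127], [67,52,113,1,37], [68,53,111,34,33],
   [70,59,98,97,123], [71,127,112,64,63], [72,117,106,86,85], [73,116,27,31,35], [74,103,83,69,65], [77,121,60,41,40], [111,83,26,126,38], [112,100,16,105,39],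
   [119,126,82,81,125], [120,89,119,46,42], [121,77,20,102,43], [126,119,109,108,124], [127,71,53,121,66], [117,72,92,103,87], [116,73,38,42,46], [102,49,12,107,78],
   [103,74,30,120,50], [125,122,25,24,119], [124,123,42,38,126], [123,124,31,27,70], [110,99,78,79,80], [109,98,64,112,55], [122,125,4,3,59], [104,107,48,47,113],
   [105,60,104,80,79], [106,101,34,111,61], [118,113,8,7,88], [115,114,17,13,96], [114,115,79,78,107], [113,118,11,10,104], [107,104,117,127,114], [108,97,86,106,93]]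

def sylMul : List (List ℕ) :=
  sylMul_0 ++ sylMul_1

def sylInv_0 : List (ℕ × List ℕ) :=
  [(1, [1,3,0,3,2,0,2,3,0,2,1,0,1,0,3,2,0,1,3,0,1]),
   (2, [0,3,0,2,3,0,3,2,3,0,1,3,2,0,1,2,0,3,1,2,1]),
   (5, [0,2,0,2,1,3,1,0,1,0,2,0,2,3,1,0,1,3,0,1,0,2]),
   (6, [0,1,2,1,3,1,0,3,2,0,2,3,0,2,0]),
   (9, [0,3,0,1,3,0,2,0,1,0,2,3,0,1,3,1,2,0]),
   (19, [3,1,0,3,0,1,3,0,2,3,2,1,0,3,2,0,2]),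
   (20, [3,2,1,3,0,3,1,0,3,2,0,1,2,3,2,0,2,0]),
   (23, [0,3,2,3,1,2,0,1,2,3,0,3,2,3,1,0,1,2,3]),
   (33, [3,0,2,0,1,2,0,2,0,1,2,3,2,1,0,2,0]),
   (34, [2,3,0,2,3,2,0,1,0,1,2,0,2,0,1,3,2,1,0,2]),
   (37, [0,1,0,2,0,3,0,2,3,1,2,0,2,0,1,2,3,2,3,1,0]),
   (39, [3,0,2,0,3,0,2,0,1,0,1,0,3,0,1,3,2,0,1]),
   (46, [0,3,1,0,1,3,1,0,2,3,0,2,3,2,1,3,1,0,1]),
   (48, [1,3,0,1,0,3,0,1,3,2,0,2,3,1,0,3,2,0,3,2,0]),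
   (50, [3,0,2,0,1,3,0,2,0,3,0,2,3,0,1,0,2,1,3,1]),
   (60, [0,2,1,3,0,2,1,0,3,2,3,1,0,3,2,0,2,1,0,1]),
   (68, [3,1,0,2,0,1,2,0,2,3,1,0,3,1,0,1,0,3,2,0]),
   (73, [0,3,2,3,0,1,2,0,3,2,1,0,1,3,1,0,3,2,3]),
   (80, [1,2,0,1,2,0,1,0,1,3,0,1,2,1,0,1,3,2]),
   (82, [2,1,3,0,2,0,2,3,0,3,2,1,0,1,3,2,3,2,1,0]),
   (89, [3,0,2,1,0,3,0,2,1,0,3,2,0,1,2,0,1,3,0]),
   (95, [1,0,2,1,3,2,3,0,1,3,1,2,0,3,2,0,1]),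
   (99, [1,3,2,3,2,0,3,2,1,0,3,2,0,1,2,0,2,1,0]),
   (103, [0,3,0,1,3,0,2,1,0,3,1,0,3,1,0,2,0,2,3]),
   (110, [3,1,2,3,0,3,1,0,3,2,3,0,3,2,3,0,3,0,2]),
   (112, [0,1,0,3,0,3,2,1,3,0,3,1,0,1,2,3,2,0,1,2,0]),
   (113, [0,2,1,0,1,0,2,1,3,0,2,3,0,2,0,2,3,2,3,0,1]),
   (114, [3,0,2,3,2,0,1,3,2,1,0,3,1,2,1,0,3,1,2,1]),
   (115, [2,3,1,0,2,0,1,2,3,0,1,3,1,2,1,0,2,0,1,0,3,0]),
   (116, [0,1,0,3,0,3,1,0,1,3,2,1,0,1,3,1,2,1,0,2,0]),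
   (118, [0,1,2,0,2,3,1,0,2,1,3,0,3,2,3,2,0,3,2,3,0,2]),
   (122, [2,0,3,2,3,0,3,2,0,1,0,3,0,1,3,0,2,3,0,2,1]),
   (123, [2,1,0,2,1,0,1,2,3,1,0,2,3,0,2,3,0,2,0]),
   (124, [0,2,3,2,1,3,0,3,2,3,2,1,0,3,1,0,1,3]),
   (125, [0,1,0,3,0,2,3,0,3,2,0,3,1,0,3,0,2,1,0])]

def sylInv : List (ℕ × List ℕ) :=
  sylInv_0

def sqWord : List ℕ := [3,1,0,1,0,2,1,3,2,0,1,2,3,2,1,0,2,3,0,2,3,0,3,1,0,1,0,2,1,3,2,0,1,2,3,2,1,0,2,3,0,2,3,0]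

end Cfsg.Lib.McLModel.Inv
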