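import Cfsg.Agent.McLModel.InvChecks
import Cfsg.Agent.McLModel.Model
import Cfsg.Prelude.Def_SporadicB
import Mathlib.GroupTheory.SpecificGroups.Alternating

/-!
The McLaughlin group has one class of involutions, with centraliser a non-split double cover of the alternating
group of degree eight.
-/

set_option autoImplicit false
set_option maxRecDepth 8000
set_option Elab.async false

namespace Cfsg.Lib.McLModel.Inv

open Cfsg Cfsg.Lib.CosetCert Cfsg.Lib.CosetCert.OutCert Cfsg.Lib.PermCert

/-- The involution. -/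
def tPerm : Equiv.Perm (Fin data.n) := data.im 0

theorem low_word {w : List ℕ} (h : Data.isLow w = true) : data.inX w = true ∧ wval data.im w ∈ data.grp :=
  ⟨Data.inX_low (Data.isLow_lt h), Data.low_mem (Data.isLow_lt h)⟩

theorem tPerm_mem : tPerm ∈ data.grp := Subgroup.subset_closure ⟨0, by norm_num, rfl⟩

theorem tPerm_sq : tPerm * tPerm = 1 := valid_data.tabled.sq 0 (by rw [valid_data.low_len.1]; norm_num)

theorem tPerm_ne : tPerm ≠ 1 := fun e => by
  have h := valid_data.sameW_of_eq (w := [0]) (v := []) (Data.inX_low (by simp)) (Data.inX_low (by simp))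
    (by rw [Data.wval_one, Data.wval_nil']; exact e)
  rw [invol_ok] at h
  exact Bool.noConfusion h

theorem fix_iff (x : Fin data.n) : isFix x.val = true ↔ tPerm⁻¹ x = x := by
  have h := List.all_eq_true.1 fix_ok.1 x.val (List.mem_range.2 x.isLt)
  rw [beq_iff_eq] at h
  rw [h, beq_iff_eq, ← valid_data.evalX (w := [0]) (Data.inX_low (by simp)) x, Data.wval_one, Fin.val_inj]
  exact Iff.rfl

theorem fix_mem {x : Fin data.n} (h : isFix x.val = true) : x.val ∈ fixPts := by
  have := List.all_eq_true.1 fix_ok.2.2 x.val (List.mem_range.2 x.isLt)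
  rw [h, Bool.not_true, Bool.false_or, List.contains_iff_mem] at this
  exact this

theorem fix_comm {z : Equiv.Perm (Fin data.n)} (hz : z * tPerm = tPerm * z) (x : Fin data.n) :
    isFix (z⁻¹ x).val = true ↔ isFix x.val = true := by
  have e : tPerm⁻¹ * z⁻¹ = z⁻¹ * tPerm⁻¹ := by rw [← mul_inv_rev, hz, mul_inv_rev]
  rw [fix_iff, fix_iff, ← Equiv.Perm.mul_apply, e, Equiv.Perm.mul_apply, z⁻¹.injective.eq_iff]

/-- The centraliser inside the permutation group. -/
def centP : Subgroup (Equiv.Perm (Fin data.n)) := data.grp ⊓ Subgroup.centralizer {tPerm}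

theorem mem_centP {z : Equiv.Perm (Fin data.n)} : z ∈ centP ↔ z ∈ data.grp ∧ z * tPerm = tPerm * z := by
  rw [centP, Subgroup.mem_inf, Subgroup.mem_centralizer_singleton_iff]

/-- The image of a point, read as a number. -/
def imgN (z : Equiv.Perm (Fin data.n)) (c : ℕ) : ℕ := if h : c < data.n then (z⁻¹ ⟨c, h⟩).val else 0

/-- The images of the five base points. -/
def imgs5 (z : Equiv.Perm (Fin data.n)) : List ℕ := [5, 62, 25, 0, 1].map (imgN z)

theorem found5 {z : Equiv.Perm (Fin data.n)} (hz : z ∈ data.grp) :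
    ∃ w, sift data.low chainF (imgs5 z) = some w ∧ Data.isLow w = true ∧ wval data.im w = z := by
  obtain ⟨h1, h2, h3, h4, h5, -⟩ := chainF_ok
  have hlow : ∀ S ∈ chainF, ∀ g ∈ S.lev.gens, ∀ l ∈ g, l < 4 := fun S hS g hg =>
    Data.isLow_lt (List.all_eq_true.1 (List.all_eq_true.1 h4 S hS) g hg)
  obtain ⟨w, hw, e⟩ := sift_complete valid_data.tabled chainF data.grp inferInstance
    (by rw [valid_data.low_len.1]; exact h1) h2 (fun S hS w hw => Data.low_mem (hlow S hS w hw))
    (le_of_eq (grp_eq.2.trans h3.symm)) z hz (imgs5 z) (by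
      rw [imgs5, ← h5, List.map_map, List.forall₂_map_right_iff]
      refine List.forall₂_same.2 fun S _ p hp => ?_
      have hb : S.lev.b < data.n := hp ▸ p.isLt
      rw [Function.comp_apply, imgN, dif_pos hb]
      exact congrArg (fun q => (z⁻¹ q).val) (Fin.ext hp))
  exact ⟨w, hw, List.all_eq_true.2 fun l hl =>
    Nat.ble_eq_true_of_le (Data.sift_low data.low chainF _ w hw hlow l hl), e⟩

theorem same5_sound {w v : List ℕ} (h : same5 w v = true) : wval data.im w = wval data.im v := by
  simp only [same5, Bool.and_eq_true, List.all_eq_true, beq_iff_eq] at h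
  obtain ⟨⟨hw, hv⟩, h⟩ := h
  have e : imgs5 (wval data.im w) = imgs5 (wval data.im v) := List.map_congr_left fun c hc => by
    by_cases hlt : c < data.n
    · rw [imgN, imgN, dif_pos hlt, dif_pos hlt, valid_data.evalX (low_word hw).1, valid_data.evalX (low_word hv).1]
      exact h c hc
    · rw [imgN, imgN, dif_neg hlt, dif_neg hlt]
  obtain ⟨a, ha, -, ea⟩ := found5 (low_word hw).2
  obtain ⟨b, hb, -, eb⟩ := found5 (low_word hv).2
  rw [e, hb, Option.some.injEq] at ha
  rw [← ea, ← ha, eb]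

theorem same5_of_eq {w v : List ℕ} (hw : Data.isLow w = true) (hv : Data.isLow v = true)
    (e : wval data.im w = wval data.im v) : same5 w v = true := by
  simp only [same5, Bool.and_eq_true, List.all_eq_true, beq_iff_eq]
  refine ⟨⟨hw, hv⟩, fun c hc => ?_⟩
  have hlt : c < data.n := by
    simp only [List.mem_cons, List.not_mem_nil, or_false] at hc
    rcases hc with rfl | rfl | rfl | rfl | rfl <;> decide
  rw [← valid_data.evalX (low_word hw).1 ⟨c, hlt⟩, e, valid_data.evalX (low_word hv).1 ⟨c, hlt⟩]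

theorem low_app {w v : List ℕ} (hw : Data.isLow w = true) (hv : Data.isLow v = true) :
    Data.isLow (w ++ v) = true := by
  simp only [Data.isLow, List.all_append, Bool.and_eq_true] at *
  exact ⟨hw, hv⟩

theorem commute_of_same5 {w : List ℕ} (h : same5 (w ++ [0]) (0 :: w) = true) :
    wval data.im w * tPerm = tPerm * wval data.im w := by
  have := same5_sound h
  rwa [Data.wval_app, Data.wval_one, Data.wval_head] at this

theorem sift_head {S : SLev} {r : List SLev} {t : ℕ} {ts : List ℕ} {w : List ℕ}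
    (h : sift data.low (S :: r) (t :: ts) = some w) : t ∈ S.idx.map Prod.fst := by
  simp only [CosetCert.sift] at h
  cases hf : S.idx.find? fun e => e.1 == t with
  | none => simp [hf] at h
  | some e =>
    exact List.mem_map.2 ⟨e, List.mem_of_find?_eq_some hf, by simpa using List.find?_some hf⟩

theorem sift_base {S : SLev} {r : List SLev} {ts : List ℕ} {w : List ℕ}
    (hh : S.idx.head? = some (S.lev.b, [])) (h : sift data.low (S :: r) (S.lev.b :: ts) = some w) :
    ∃ v, sift data.low r ts = some v := by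
  obtain ⟨tl, htl⟩ : ∃ tl, S.idx = (S.lev.b, []) :: tl := by
    cases hi : S.idx with
    | nil => rw [hi] at hh; simp at hh
    | cons e tl =>
      rw [hi, List.head?_cons, Option.some.injEq] at hh
      exact ⟨tl, by rw [hh]⟩
  have hid : (evalW data.low (genWordL S.lev.gens ([] : List ℕ)).reverse) = id := by
    funext x
    simp [genWordL, evalW, evalWord]
  simp only [CosetCert.sift, htl, List.find?_cons, beq_self_eq_true, hid, List.map_id] at h
  cases hs : sift data.low r ts with
  | none => simp [hs] at h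
  | some v => exact ⟨v, rfl⟩

theorem heads {j : ℕ} (hj : j < chainF.length) : chainF[j].idx.head? = some (chainF[j].lev.b, []) := by
  simpa using List.all_eq_true.1 chainF_heads _ (List.getElem_mem hj)

theorem imgs5_eq (z : Equiv.Perm (Fin data.n)) :
    imgs5 z = [imgN z 5, imgN z 62, imgN z 25, imgN z 0, imgN z 1] := rfl

theorem chainF_def : chainF = [levF0, levF1, levF2, levF3, levF4] := rfl

theorem key0 {z : Equiv.Perm (Fin data.n)} (hz : z ∈ data.grp) : imgN z 5 ∈ levF0.idx.map Prod.fst := by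
  obtain ⟨w, hw, -, -⟩ := found5 hz
  rw [chainF_def, imgs5_eq] at hw
  exact sift_head hw

theorem base0 {z : Equiv.Perm (Fin data.n)} (hz : z ∈ data.grp) (h5 : imgN z 5 = 5) :
    ∃ v, sift data.low [levF1, levF2, levF3, levF4] [imgN z 62, imgN z 25, imgN z 0, imgN z 1] = some v := by
  obtain ⟨w, hw, -, -⟩ := found5 hz
  rw [chainF_def, imgs5_eq, h5] at hw
  exact sift_base (S := levF0) (heads (j := 0) (Nat.zero_lt_succ _)) hw

theorem base1 {z : Equiv.Perm (Fin data.n)} (hz : z ∈ data.grp) (h5 : imgN z 5 = 5) (h62 : imgN z 62 = 62) :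
    ∃ v, sift data.low [levF2, levF3, levF4] [imgN z 25, imgN z 0, imgN z 1] = some v := by
  obtain ⟨w, hw⟩ := base0 hz h5
  rw [h62] at hw
  exact sift_base (S := levF1) (heads (j := 1) (by rw [chainF_def]; norm_num)) hw

theorem base2 {z : Equiv.Perm (Fin data.n)} (hz : z ∈ data.grp) (h5 : imgN z 5 = 5) (h62 : imgN z 62 = 62)
    (h25 : imgN z 25 = 25) :
    ∃ v, sift data.low [levF3, levF4] [imgN z 0, imgN z 1] = some v := by
  obtain ⟨w, hw⟩ := base1 hz h5 h62
  rw [h25] at hw
  exact sift_base (S := levF2) (heads (j := 2) (by rw [chainF_def]; norm_num)) hw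

/-- Orbit times stabiliser. -/
theorem card_le_orbit (H : Subgroup (Equiv.Perm (Fin data.n))) (p : Fin data.n) (L : List ℕ)
    (h : ∀ z ∈ H, (z⁻¹ p).val ∈ L) :
    Nat.card H ≤ L.length * Nat.card ↥(H ⊓ MulAction.stabilizer (Equiv.Perm (Fin data.n)) p) := by
  have e := Nat.card_congr (MulAction.orbitProdStabilizerEquivGroup H p)
  rw [Nat.card_prod, Nat.card_coe_set_eq] at e
  have hs : Nat.card (MulAction.stabilizer H p) =
      Nat.card ↥(H ⊓ MulAction.stabilizer (Equiv.Perm (Fin data.n)) p) := by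
    rw [← Subgroup.card_map_of_injective (f := H.subtype) H.subtype_injective]
    refine Nat.card_congr (Equiv.subtypeEquivRight fun z => ?_)
    simp only [Subgroup.mem_map, Subgroup.mem_inf, MulAction.mem_stabilizer_iff]
    exact ⟨fun ⟨x, hx, e⟩ => e ▸ ⟨x.2, hx⟩, fun hz => ⟨⟨z, hz.1⟩, hz.2, rfl⟩⟩
  rw [← e, hs]
  refine Nat.mul_le_mul_right _ ?_
  calc (MulAction.orbit H p).ncard ≤ (L.toFinset : Set ℕ).ncard :=
        Set.ncard_le_ncard_of_injOn (fun q : Fin data.n => q.val) (by
          rintro _ ⟨g, rfl⟩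
          have := h _ (inv_mem g.2)
          rw [inv_inv] at this
          rw [Finset.mem_coe, List.mem_toFinset]
          exact this) (fun a _ b _ e => Fin.ext e) (Finset.finite_toSet _)
    _ ≤ L.length := by
        rw [Set.ncard_coe_finset]
        exact L.toFinset_card_le

theorem imgN_stab {z : Equiv.Perm (Fin data.n)} {c : ℕ} (hc : c < data.n)
    (h : z ∈ MulAction.stabilizer (Equiv.Perm (Fin data.n)) (⟨c, hc⟩ : Fin data.n)) : imgN z c = c := by
  rw [imgN, dif_pos hc, Equiv.Perm.inv_eq_iff_eq.2 (MulAction.mem_stabilizer_iff.1 h).symm]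

theorem img_fix {z : Equiv.Perm (Fin data.n)} (hz : z * tPerm = tPerm * z) {c : ℕ} (hc : c < data.n)
    (hf : isFix c = true) : isFix (imgN z c) = true := by
  rw [imgN, dif_pos hc]
  exact (fix_comm hz ⟨c, hc⟩).2 hf

theorem lt5 : (5 < data.n ∧ 62 < data.n ∧ 25 < data.n) ∧ 0 < data.n ∧ 1 < data.n := by decide

theorem card_le_keys {H : Subgroup (Equiv.Perm (Fin data.n))} (hH : H ≤ centP) {c : ℕ} (hc : c < data.n)
    (hf : isFix c = true) (K : List ℕ) (hk : ∀ z ∈ H, imgN z c ∈ K) :
    Nat.card H ≤ (K.filter isFix).length *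
      Nat.card ↥(H ⊓ MulAction.stabilizer (Equiv.Perm (Fin data.n)) (⟨c, hc⟩ : Fin data.n)) :=
  card_le_orbit H ⟨c, hc⟩ _ fun z hz => by
    have e : imgN z c = (z⁻¹ ⟨c, hc⟩).val := by rw [imgN, dif_pos hc]
    exact e ▸ List.mem_filter.2 ⟨hk z hz, img_fix (mem_centP.1 (hH hz)).2 hc hf⟩

theorem card_centP_le : Nat.card centP ≤ 40320 := by
  obtain ⟨⟨l5, l62, l25⟩, -, -⟩ := lt5
  obtain ⟨⟨f5, f62⟩, f25⟩ : (isFix 5 = true ∧ isFix 62 = true) ∧ isFix 25 = true := by
    simpa using chainF_ok.2.2.2.2.2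
  obtain ⟨k0, k1, k2⟩ := fixKeys_ok
  simp only [fixKeys, chainF_def, List.getD_cons_zero, List.getD_cons_succ] at k0 k1 k2
  set H1 := centP ⊓ MulAction.stabilizer (Equiv.Perm (Fin data.n)) (⟨5, l5⟩ : Fin data.n) with hH1
  set H2 := H1 ⊓ MulAction.stabilizer (Equiv.Perm (Fin data.n)) (⟨62, l62⟩ : Fin data.n) with hH2
  set H3 := H2 ⊓ MulAction.stabilizer (Equiv.Perm (Fin data.n)) (⟨25, l25⟩ : Fin data.n) with hH3
  have b1 := card_le_keys le_rfl l5 f5 (levF0.idx.map Prod.fst) fun z hz => key0 (mem_centP.1 hz).1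
  have b2 := card_le_keys (H := H1) inf_le_left l62 f62 (levF1.idx.map Prod.fst) fun z hz => by
    obtain ⟨v, hv⟩ := base0 (mem_centP.1 hz.1).1 (imgN_stab l5 hz.2)
    exact sift_head hv
  have b3 := card_le_keys (H := H2) (inf_le_left.trans inf_le_left) l25 f25 (levF2.idx.map Prod.fst) fun z hz => by
    obtain ⟨v, hv⟩ := base1 (mem_centP.1 hz.1.1).1 (imgN_stab l5 hz.1.2) (imgN_stab l62 hz.2)
    exact sift_head hv
  rw [← hH1] at b1
  rw [← hH2] at b2
  rw [← hH3] at b3
  have b4 : Nat.card H3 ≤ 8 := by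
    refine le_trans ?_ accepted_ok
    have hmem : ∀ z : H3, (imgN z.1 0, imgN z.1 1) ∈ accepted := fun z => by
      have h5 := imgN_stab l5 z.2.1.1.2
      have h62 := imgN_stab l62 z.2.1.2
      have h25 := imgN_stab l25 z.2.2
      have hc := mem_centP.1 z.2.1.1.1
      obtain ⟨v, hv⟩ := base2 hc.1 h5 h62 h25
      refine List.mem_filter.2 ⟨List.mem_flatMap.2 ⟨imgN z.1 0, ?_, List.mem_map.2 ⟨imgN z.1 1, ?_, rfl⟩⟩, ?_⟩
      · rw [chainF_def]
        exact sift_head hv
      · rw [List.mem_range, imgN, dif_pos lt5.2.2]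
        exact Fin.isLt _
      · obtain ⟨w, hw, hlow, e⟩ := found5 hc.1
        rw [imgs5_eq, h5, h62, h25] at hw
        simp only [accept, hw]
        exact same5_of_eq (low_app hlow rfl) (low_app (w := [0]) rfl hlow)
          (by rw [Data.wval_app, Data.wval_one, Data.wval_head, e]; exact hc.2)
    have hinj : Function.Injective fun z : H3 => (⟨_, List.mem_toFinset.2 (hmem z)⟩ : accepted.toFinset) := by
      intro a b e
      obtain ⟨e0, e1⟩ := Prod.ext_iff.1 (congrArg Subtype.val e)
      dsimp only at e0 e1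
      obtain ⟨wa, ha, -, ea⟩ := found5 (mem_centP.1 a.2.1.1.1).1
      obtain ⟨wb, hb, -, eb⟩ := found5 (mem_centP.1 b.2.1.1.1).1
      rw [imgs5_eq, imgN_stab l5 a.2.1.1.2, imgN_stab l62 a.2.1.2, imgN_stab l25 a.2.2, e0, e1] at ha
      rw [imgs5_eq, imgN_stab l5 b.2.1.1.2, imgN_stab l62 b.2.1.2, imgN_stab l25 b.2.2, ha,
        Option.some.injEq] at hb
      exact Subtype.ext (by rw [← ea, hb, eb])
    refine (Nat.card_le_card_of_injective _ hinj).trans ?_
    rw [Nat.card_eq_fintype_card, Fintype.card_coe]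
    exact List.toFinset_card_le _
  calc Nat.card centP ≤ 35 * Nat.card H1 := b1.trans (Nat.mul_le_mul_right _ k0)
    _ ≤ 35 * (18 * Nat.card H2) := Nat.mul_le_mul_left _ (b2.trans (Nat.mul_le_mul_right _ k1))
    _ ≤ 35 * (18 * (8 * Nat.card H3)) :=
        Nat.mul_le_mul_left _ (Nat.mul_le_mul_left _ (b3.trans (Nat.mul_le_mul_right _ k2)))
    _ ≤ 35 * (18 * (8 * 8)) :=
        Nat.mul_le_mul_left _ (Nat.mul_le_mul_left _ (Nat.mul_le_mul_left _ b4))
    _ = 40320 := by norm_num

/-- The subgroup on the listed generators. -/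
def centGrp : Subgroup (Equiv.Perm (Fin data.n)) :=
  Subgroup.closure ((fun w => wval data.im w) '' {w | w ∈ centGens})

theorem centGens_mem {w : List ℕ} (h : w ∈ centGens) : wval data.im w ∈ centP := by
  have := List.all_eq_true.1 chainC_ok.2.2.2.1 w h
  rw [Bool.and_eq_true] at this
  exact mem_centP.2 ⟨(low_word this.1).2, commute_of_same5 this.2⟩

theorem centP_eq : centP = centGrp ∧ Nat.card centP = 40320 := by
  have hle : centGrp ≤ centP := (Subgroup.closure_le _).2 (by
    rintro _ ⟨w, hw, rfl⟩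
    exact centGens_mem hw)
  obtain ⟨h1, h2, h3, -, -, -⟩ := chainC_ok
  have hlow : 40320 ≤ Nat.card centGrp := by
    rw [← h2]
    refine chain_bound data.im (MonoidHom.id _) data.low valid_data.tabled.act _ _
      (by rw [valid_data.low_len.1]; exact h1) inferInstance fun K hK w hw => ?_
    exact Subgroup.subset_closure
      ⟨w, List.contains_iff_mem.1 (List.all_eq_true.1 (List.all_eq_true.1 h3 K hK) w hw), rfl⟩
  have e : centGrp = centP := Subgroup.eq_of_le_of_card_ge hle (card_centP_le.trans hlow)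
  exact ⟨e.symm, le_antisymm card_centP_le (e ▸ hlow)⟩

/-- A permutation of eight things matching the action on the bisections. -/
def Good (z : Equiv.Perm (Fin data.n)) (σ : Equiv.Perm (Fin 8)) : Prop :=
  ∀ (i j : Fin 8) (a : Fin data.n), isFix a.val = true →
    same (σ⁻¹ i).val (σ⁻¹ j).val (z⁻¹ a).val = same i.val j.val a.val

theorem good_one : Good 1 1 := fun _ _ _ _ => by simp

theorem good_mul {z z' : Equiv.Perm (Fin data.n)} (hz : z ∈ centP) {σ σ' : Equiv.Perm (Fin 8)}
    (h : Good z σ) (h' : Good z' σ') : Good (z * z') (σ * σ') := fun i j a ha => by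
  rw [mul_inv_rev, mul_inv_rev, Equiv.Perm.mul_apply, Equiv.Perm.mul_apply, Equiv.Perm.mul_apply,
    h' (σ⁻¹ i) (σ⁻¹ j) _ ((fix_comm (mem_centP.1 hz).2 a).2 ha)]
  exact h i j a ha

theorem good_inv {z : Equiv.Perm (Fin data.n)} (hz : z ∈ centP) {σ : Equiv.Perm (Fin 8)} (h : Good z σ) :
    Good z⁻¹ σ⁻¹ := fun i j a ha => by
  have ha' : isFix (z a).val = true := (fix_comm (mem_centP.1 hz).2 (z a)).1 (by simpa using ha)
  have := h (σ i) (σ j) (z a) ha'
  simp only [Equiv.Perm.coe_inv, Equiv.symm_apply_apply] at this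
  rw [inv_inv, inv_inv]
  exact this.symm

theorem good_unique {z : Equiv.Perm (Fin data.n)} (hz : z ∈ centP) {σ σ' : Equiv.Perm (Fin 8)}
    (h : Good z σ) (h' : Good z σ') : σ = σ' := by
  have key : ∀ i j : Fin 8, i ≠ j → (σ⁻¹ i = σ'⁻¹ i ∧ σ⁻¹ j = σ'⁻¹ j) ∨ (σ⁻¹ i = σ'⁻¹ j ∧ σ⁻¹ j = σ'⁻¹ i) := by
    intro i j hij
    have hd := List.all_eq_true.1 (List.all_eq_true.1 (List.all_eq_true.1 (List.all_eq_true.1 pairs_sep (σ⁻¹ i).val
      (List.mem_range.2 (Fin.isLt _))) (σ⁻¹ j).val (List.mem_range.2 (Fin.isLt _))) (σ'⁻¹ i).val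
      (List.mem_range.2 (Fin.isLt _))) (σ'⁻¹ j).val (List.mem_range.2 (Fin.isLt _))
    simp only [Bool.or_eq_true, Bool.and_eq_true, beq_iff_eq, Fin.val_inj] at hd
    rcases hd with ((hd | hd) | hd) | hd
    · exact absurd (σ⁻¹.injective hd) hij
    · exact Or.inl hd
    · exact Or.inr hd
    · obtain ⟨a, ha, hd⟩ := List.any_eq_true.1 hd
      have ha' := List.all_eq_true.1 fix_ok.2.1 a ha
      rw [Bool.and_eq_true] at ha'
      have la : a < data.n := Nat.le_of_ble_eq_true ha'.1
      have fa : isFix (z ⟨a, la⟩).val = true :=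
        (fix_comm (mem_centP.1 hz).2 _).1 (by simpa using ha'.2)
      have e1 := h i j _ fa
      have e2 := h' i j _ fa
      simp only [Equiv.Perm.coe_inv, Equiv.symm_apply_apply] at e1 e2
      simp only [Equiv.Perm.coe_inv] at hd
      rw [e1, e2] at hd
      simp at hd
  refine inv_injective (Equiv.ext fun i => ?_)
  by_contra hne
  have hex : ∀ i : Fin 8, ∃ j k : Fin 8, i ≠ j ∧ i ≠ k ∧ j ≠ k := by decide
  obtain ⟨j, k, hj, hk, hjk⟩ := hex i
  rcases key i j hj with ⟨e, -⟩ | ⟨e1, -⟩
  · exact hne e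
  rcases key i k hk with ⟨e, -⟩ | ⟨e2, -⟩
  · exact hne e
  exact hjk (σ'⁻¹.injective (e1.symm.trans e2))

/-- The permutation of the eight sets given with a generator. -/
def imI (k : ℕ) : Equiv.Perm (Fin 8) := perm 8 (centImgs.getD k (0, 0))

theorem imgs_act : ∀ k < centImgs.length, valid 8 (centImgs.getD k (0, 0)) = true ∧
    (MonoidHom.id (Equiv.Perm (Fin 8))) (imI k) = perm 8 (centImgs.getD k (0, 0)) := fun k hk => by
  refine ⟨?_, rfl⟩
  rw [List.getD_eq_getElem _ _ hk]
  exact List.all_eq_true.1 imgs_valid _ (List.getElem_mem hk)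

theorem good_gen {k : ℕ} (hk : k < 11) : Good (wval data.im (centGens.getD k [])) (imI k) := by
  intro i j a ha
  have hc := List.all_eq_true.1 (List.all_eq_true.1 carry_ok k (List.mem_range.2 hk)) a.val (fix_mem ha)
  have hw : Data.isLow (centGens.getD k []) = true := by
    rw [List.getD_eq_getElem _ _ (by rw [chainC_ok.2.2.2.2.1]; exact hk)]
    exact (Bool.and_eq_true _ _ ▸ List.all_eq_true.1 chainC_ok.2.2.2.1 _ (List.getElem_mem _)).1
  have hv := (imgs_act k (by rw [chainC_ok.2.2.2.2.2]; exact hk)).1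
  have hsig : ∀ i : Fin 8, ((imI k)⁻¹ i).val = ap (centImgs.getD k (0, 0)).2 i.val := fun i => by
    rw [imI, perm, dif_pos hv]
    rfl
  rw [same, same, hsig, hsig, valid_data.evalX (low_word hw).1]
  rw [Bool.or_eq_true] at hc
  rcases hc with hc | hc
  · rw [beq_iff_eq.1 (List.all_eq_true.1 hc i.val (List.mem_range.2 i.isLt)),
      beq_iff_eq.1 (List.all_eq_true.1 hc j.val (List.mem_range.2 j.isLt))]
  · rw [beq_iff_eq.1 (List.all_eq_true.1 hc i.val (List.mem_range.2 i.isLt)),
      beq_iff_eq.1 (List.all_eq_true.1 hc j.val (List.mem_range.2 j.isLt))]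
    cases (fld a.val).testBit i.val <;> cases (fld a.val).testBit j.val <;> rfl

theorem exists_good {z : Equiv.Perm (Fin data.n)} (hz : z ∈ centP) :
    ∃ σ, σ ∈ Subgroup.closure (imI '' Set.Iio 11) ∧ Good z σ := by
  rw [centP_eq.1] at hz
  refine Subgroup.closure_induction (p := fun y _ => ∃ σ, σ ∈ Subgroup.closure (imI '' Set.Iio 11) ∧ Good y σ)
    ?_ ⟨1, one_mem _, good_one⟩ ?_ ?_ hz
  · rintro _ ⟨w, hw, rfl⟩
    obtain ⟨k, hk, rfl⟩ := List.getElem_of_mem hw
    refine ⟨imI k, Subgroup.subset_closure ⟨k, by rw [chainC_ok.2.2.2.2.1] at hk; exact hk, rfl⟩, ?_⟩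
    rw [← List.getD_eq_getElem centGens [] hk]
    exact good_gen (by rw [chainC_ok.2.2.2.2.1] at hk; exact hk)
  · rintro x y hx hy ⟨σ, hσ, h⟩ ⟨σ', hσ', h'⟩
    exact ⟨σ * σ', mul_mem hσ hσ', good_mul (by rw [centP_eq.1]; exact hx) h h'⟩
  · rintro x hx ⟨σ, hσ, h⟩
    exact ⟨σ⁻¹, inv_mem hσ, good_inv (by rw [centP_eq.1]; exact hx) h⟩

/-- The action on the eight sets. -/
noncomputable def act8 : centP →* Equiv.Perm (Fin 8) :=
  MonoidHom.mk' (fun z => (exists_good z.2).choose) fun a b =>
    good_unique (a * b).2 (exists_good (a * b).2).choose_spec.2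
      (good_mul a.2 (exists_good a.2).choose_spec.2 (exists_good b.2).choose_spec.2)

theorem act8_eq {z : centP} {σ : Equiv.Perm (Fin 8)} (h : Good z.1 σ) : act8 z = σ :=
  good_unique z.2 (exists_good z.2).choose_spec.2 h

theorem act8_range : act8.range = alternatingGroup (Fin 8) := by
  have hA : Nat.card (alternatingGroup (Fin 8)) = 20160 := by
    rw [nat_card_alternatingGroup, Nat.card_fin]
    rfl
  have hle : Subgroup.closure (imI '' Set.Iio 11) ≤ alternatingGroup (Fin 8) := (Subgroup.closure_le _).2 (by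
    rintro _ ⟨k, hk, rfl⟩
    exact Equiv.Perm.mem_alternatingGroup.2 (imgs_sign ⟨k, hk⟩))
  have hr : act8.range = Subgroup.closure (imI '' Set.Iio 11) := by
    refine le_antisymm ?_ ((Subgroup.closure_le _).2 ?_)
    · rintro _ ⟨z, rfl⟩
      exact (exists_good z.2).choose_spec.1
    · rintro _ ⟨k, hk, rfl⟩
      have hk' : k < centGens.length := by rw [chainC_ok.2.2.2.2.1]; exact hk
      refine ⟨⟨_, centGens_mem (w := centGens.getD k []) ?_⟩, act8_eq (good_gen hk)⟩
      rw [List.getD_eq_getElem _ _ hk']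
      exact List.getElem_mem _
  rw [hr]
  refine Subgroup.eq_of_le_of_card_ge hle ?_
  rw [hA, ← imgs_chain.2]
  refine chain_bound imI (MonoidHom.id _) centImgs imgs_act _ _ imgs_chain.1 inferInstance fun K hK w hw => ?_
  refine list_prod_mem fun g hg => ?_
  obtain ⟨l, hl, rfl⟩ := List.mem_map.1 hg
  have hlt := chain_bound.chain_letters.{0} centImgs chainI imgs_chain.1 K hK w hw l hl
  rw [chainC_ok.2.2.2.2.2] at hlt
  exact Subgroup.subset_closure ⟨l, hlt, rfl⟩

/-- The involution in the centraliser. -/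
def tC : centP := ⟨tPerm, mem_centP.2 ⟨tPerm_mem, rfl⟩⟩

theorem ker_eq : act8.ker = Subgroup.center centP ∧ Nat.card act8.ker = 2 ∧ tC ∈ act8.ker := by
  have hA : Nat.card (alternatingGroup (Fin 8)) = 20160 := by
    rw [nat_card_alternatingGroup, Nat.card_fin]
    rfl
  have hcard : Nat.card act8.ker = 2 := by
    have h := Subgroup.card_eq_card_quotient_mul_card_subgroup act8.ker
    rw [Nat.card_congr (QuotientGroup.quotientKerEquivRange act8).toEquiv, act8_range, hA, centP_eq.2] at h
    omega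
  have ht : tC ∈ act8.ker := act8_eq fun i j a ha => by
    show same ((1 : Equiv.Perm (Fin 8))⁻¹ i).val ((1 : Equiv.Perm (Fin 8))⁻¹ j).val (tPerm⁻¹ a).val = _
    rw [(fix_iff a).1 ha]
    simp
  refine ⟨le_antisymm ?_ ?_, hcard, ht⟩
  · intro z hz
    haveI : Finite act8.ker := inferInstance
    have key : z = 1 ∨ z = tC := by
      by_contra hne
      push Not at hne
      let f : Fin 3 → act8.ker := ![1, ⟨tC, ht⟩, ⟨z, hz⟩]
      have hne' : tC ≠ 1 := fun e => tPerm_ne (congrArg Subtype.val e)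
      have hf : Function.Injective f := by
        intro i j e
        have e' := congrArg Subtype.val e
        fin_cases i <;> fin_cases j <;> simp [f, hne.1, hne.2, hne', Ne.symm hne.1, Ne.symm hne.2, Ne.symm hne'] at e' ⊢
      have := Nat.card_le_card_of_injective f hf
      rw [hcard, Nat.card_fin] at this
      omega
    rw [Subgroup.mem_center_iff]
    intro g
    rcases key with rfl | rfl
    · simp
    · exact Subtype.ext (mem_centP.1 g.2).2
  · intro z hz
    have hzc : (⟨act8 z, act8_range ▸ ⟨z, rfl⟩⟩ : alternatingGroup (Fin 8)) ∈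
        Subgroup.center (alternatingGroup (Fin 8)) := by
      rw [Subgroup.mem_center_iff]
      rintro ⟨g, hg⟩
      rw [← act8_range] at hg
      obtain ⟨y, rfl⟩ := hg
      exact Subtype.ext (show act8 y * act8 z = act8 z * act8 y by
        rw [← map_mul, ← map_mul, Subgroup.mem_center_iff.1 hz y])
    rw [alternatingGroup.center_eq_bot (by rw [Nat.card_fin]; norm_num), Subgroup.mem_bot] at hzc
    exact congrArg Subtype.val hzc

theorem double_cover : IsNonsplitDoubleCover ↥centP ↥(alternatingGroup (Fin 8)) := by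
  obtain ⟨hk, h2, ht⟩ := ker_eq
  refine ⟨hk ▸ h2, ⟨((QuotientGroup.quotientMulEquivOfEq hk.symm).trans
    (QuotientGroup.quotientKerEquivRange act8)).trans (MulEquiv.subgroupCongr act8_range)⟩, fun L hL => ?_⟩
  obtain ⟨hs1, hs2, hs3⟩ := square_ok
  let s : centP := ⟨wval data.im sqWord, mem_centP.2 ⟨(low_word hs2).2, commute_of_same5 hs3⟩⟩
  have hss : s * s = tC := Subtype.ext (by
    have := same5_sound hs1
    rw [Data.wval_app, Data.wval_one] at this
    exact this)
  obtain ⟨⟨⟨c, hc⟩, ⟨l, hl⟩⟩, hcl⟩ := hL.2 s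
  dsimp only at hcl
  have hcc : c * c = 1 := by
    haveI : Finite (Subgroup.center centP) := inferInstance
    have : (⟨c, hc⟩ : Subgroup.center centP) ^ 2 = 1 := (hk ▸ h2 : Nat.card (Subgroup.center centP) = 2) ▸ pow_card_eq_one'
    rw [pow_two] at this
    exact congrArg Subtype.val this
  have e : tC = l * l := by
    rw [← hss, ← hcl]
    have : l * c = c * l := Subgroup.mem_center_iff.1 hc l
    calc c * l * (c * l) = c * (l * c) * l := by group
      _ = c * c * (l * l) := by rw [this]; group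
      _ = l * l := by rw [hcc, one_mul]
  have htl : tC ∈ L := e ▸ L.mul_mem hl hl
  have := Subgroup.disjoint_def.1 hL.disjoint (hk ▸ ht) htl
  exact tPerm_ne (congrArg Subtype.val this)

/-- An element of the list of a Sylow subgroup. -/
def syl (i : ℕ) : data.grp := ⟨wval data.im (sylWords.getD i []), by
  by_cases h : i < sylWords.length
  · rw [List.getD_eq_getElem _ _ h]
    exact (low_word (List.all_eq_true.1 syl_low.2.1 _ (List.getElem_mem h))).2
  · rw [List.getD_eq_default _ _ (not_lt.1 h), Data.wval_nil']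
    exact one_mem _⟩

theorem sylGen_low (j : ℕ) : Data.isLow (sylGens.getD j []) = true := by
  by_cases h : j < sylGens.length
  · rw [List.getD_eq_getElem _ _ h]
    exact List.all_eq_true.1 syl_low.2.2.1 _ (List.getElem_mem h)
  · rw [List.getD_eq_default _ _ (not_lt.1 h)]
    rfl

theorem sylWord_low (i : ℕ) : Data.isLow (sylWords.getD i []) = true := by
  by_cases h : i < sylWords.length
  · rw [List.getD_eq_getElem _ _ h]
    exact List.all_eq_true.1 syl_low.2.1 _ (List.getElem_mem h)
  · rw [List.getD_eq_default _ _ (not_lt.1 h)]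
    rfl

/-- A generator of the Sylow subgroup. -/
def sylG (j : ℕ) : data.grp := ⟨wval data.im (sylGens.getD j []), (low_word (sylGen_low j)).2⟩

theorem syl_step {i j : ℕ} (hi : i < 128) (hj : j < sylGens.length) :
    (sylMul.getD i []).getD j 0 < 128 ∧ syl i * sylG j = syl ((sylMul.getD i []).getD j 0) := by
  have h := List.all_eq_true.1 (List.all_eq_true.1 syl_mul i (List.mem_range.2 hi)) j (List.mem_range.2 hj)
  rw [Bool.and_eq_true] at h
  refine ⟨Nat.le_of_ble_eq_true h.1, Subtype.ext ?_⟩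
  have := same5_sound h.2
  rwa [Data.wval_app] at this

/-- The Sylow subgroup. -/
def sylGrp : Subgroup data.grp := Subgroup.closure (sylG '' Set.Iio sylGens.length)

theorem syl_zero : syl 0 = 1 := Subtype.ext (by
  show wval data.im (sylWords.getD 0 []) = 1
  rw [syl_low.2.2.2, Data.wval_nil'])

theorem syl_mem : ∀ i < 128, syl i ∈ sylGrp := by
  intro i
  induction i using Nat.strong_induction_on with
  | _ i ih =>
    intro hi
    rcases Nat.eq_zero_or_pos i with rfl | hpos
    · exact syl_zero ▸ one_mem _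
    · have h := List.all_eq_true.1 syl_reach i (List.mem_range'_1.2 ⟨hpos, by omega⟩)
      obtain ⟨p, hp, h⟩ := List.any_eq_true.1 h
      obtain ⟨j, hj, h⟩ := List.any_eq_true.1 h
      rw [List.mem_range] at hp hj
      obtain ⟨-, e⟩ := syl_step (i := p) (by omega) hj
      rw [beq_iff_eq.1 h] at e
      exact e ▸ mul_mem (ih p hp (by omega)) (Subgroup.subset_closure ⟨j, hj, rfl⟩)

theorem syl_exhaust {x : data.grp} (hx : x ∈ sylGrp) : ∃ i < 128, x = syl i := by
  refine Subgroup.closure_induction_right (p := fun y _ => ∃ i < 128, y = syl i) ⟨0, by norm_num, syl_zero.symm⟩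
    ?_ ?_ hx
  · rintro x - _ ⟨j, hj, rfl⟩ ⟨i, hi, rfl⟩
    exact ⟨_, (syl_step hi hj).1, (syl_step hi hj).2⟩
  · rintro x - _ ⟨j, hj, rfl⟩ ⟨i, hi, rfl⟩
    have hp : ∀ m : ℕ, ∃ k < 128, syl i * sylG j ^ m = syl k := fun m => by
      induction m with
      | zero => exact ⟨i, hi, by simp⟩
      | succ m ih =>
        obtain ⟨k, hk, e⟩ := ih
        exact ⟨_, (syl_step hk hj).1, by rw [pow_succ, ← mul_assoc, e]; exact (syl_step hk hj).2⟩
    obtain ⟨m, hm⟩ : ∃ m : ℕ, sylG j ^ m = (sylG j)⁻¹ := ⟨orderOf (sylG j) - 1, by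
      rw [eq_inv_iff_mul_eq_one, ← pow_succ, Nat.sub_add_cancel (orderOf_pos _), pow_orderOf_eq_one]⟩
    rw [← hm]
    exact hp m

theorem syl_card : Nat.card sylGrp = 128 := by
  have hinj : Function.Injective fun i : Fin 128 => (⟨syl i, syl_mem i i.isLt⟩ : sylGrp) := by
    intro a b e
    have e' : wval data.im (sylWords.getD a.val []) = wval data.im (sylWords.getD b.val []) :=
      congrArg (fun q : sylGrp => (q.1 : Equiv.Perm (Fin data.n))) e
    have key : ∀ i j : Fin 128, j.val < i.val →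
        wval data.im (sylWords.getD i.val []) = wval data.im (sylWords.getD j.val []) → False := fun i j hlt e => by
      have h := List.all_eq_true.1 (List.all_eq_true.1 syl_distinct i.val (List.mem_range.2 i.isLt)) j.val
        (List.mem_range.2 hlt)
      rw [same5_of_eq (sylWord_low _) (sylWord_low _) e] at h
      exact Bool.noConfusion h
    rcases lt_trichotomy a.val b.val with h | h | h
    · exact (key b a h e'.symm).elim
    · exact Fin.ext h
    · exact (key a b h e').elim
  have hbij : Function.Bijective fun i : Fin 128 => (⟨syl i, syl_mem i i.isLt⟩ : sylGrp) :=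
    ⟨hinj, fun x => by
      obtain ⟨i, hi, e⟩ := syl_exhaust x.2
      exact ⟨⟨i, hi⟩, Subtype.ext e.symm⟩⟩
  rw [← Nat.card_eq_of_bijective _ hbij, Nat.card_fin]

/-- The involution in the group. -/
def tG : data.grp := ⟨tPerm, tPerm_mem⟩

theorem tG_order : orderOf tG = 2 :=
  orderOf_eq_prime (by rw [pow_two]; exact Subtype.ext tPerm_sq) fun e => tPerm_ne (congrArg Subtype.val e)

theorem isConj_tG {x : data.grp} (hx : orderOf x = 2) : IsConj tG x := by
  haveI : Fact (Nat.Prime 2) := ⟨Nat.prime_two⟩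
  have hfac : (Nat.card data.grp).factorization 2 = 7 := by
    rw [grp_eq.2, show (898128000 : ℕ) = 2 ^ 7 * 7016625 by norm_num,
      Nat.factorization_mul (by norm_num) (by norm_num), Nat.Prime.factorization_pow Nat.prime_two,
      Finsupp.add_apply, Finsupp.single_eq_same, Nat.factorization_eq_zero_of_not_dvd (by norm_num)]
  let P : Sylow 2 data.grp := Sylow.ofCard sylGrp (by rw [syl_card, hfac]; norm_num)
  obtain ⟨Q, hQ⟩ := (IsPGroup.of_card (n := 1) (by rw [Nat.card_zpowers, hx, pow_one]) :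
    IsPGroup 2 (Subgroup.zpowers x)).exists_le_sylow
  obtain ⟨g, hg⟩ := MulAction.exists_smul_eq data.grp Q P
  have hmem : g * x * g⁻¹ ∈ sylGrp := by
    have : g * x * g⁻¹ ∈ (g • Q : Sylow 2 data.grp) := by
      refine ⟨x, hQ (Subgroup.mem_zpowers x), rfl⟩
    rw [hg] at this
    exact this
  obtain ⟨i, hi, e⟩ := syl_exhaust hmem
  have hconj : IsConj x (syl i) := isConj_iff.2 ⟨g, e⟩
  refine IsConj.trans ?_ hconj.symm
  have hne : syl i ≠ 1 := fun h => by
    rw [h, isConj_one_left] at hconj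
    rw [hconj, orderOf_one] at hx
    norm_num at hx
  have hi0 : 0 < i := Nat.pos_of_ne_zero fun h => hne (h ▸ syl_zero)
  have hsq : syl i * syl i = 1 := by
    rw [← e, ← pow_two, conj_pow, ← hx, pow_orderOf_eq_one, mul_one, mul_inv_cancel]
  have h := List.all_eq_true.1 syl_invol i (List.mem_range'_1.2 ⟨hi0, by omega⟩)
  have hsame : same5 (sylWords.getD i [] ++ sylWords.getD i []) [] = true :=
    same5_of_eq (low_app (sylWord_low i) (sylWord_low i)) rfl
      (by rw [Data.wval_app, Data.wval_nil']; exact congrArg Subtype.val hsq)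
  rw [hsame, Bool.not_true, Bool.false_or] at h
  obtain ⟨⟨k, v⟩, hkv, hk⟩ := List.any_eq_true.1 h
  obtain rfl : k = i := beq_iff_eq.1 hk
  have hv := List.all_eq_true.1 syl_conj _ hkv
  simp only [Bool.and_eq_true] at hv
  have e2 := same5_sound hv.2
  rw [Data.wval_app, Data.wval_app, Data.wval_one] at e2
  exact isConj_iff.2 ⟨⟨wval data.im v, (low_word hv.1.1).2⟩,
    mul_inv_eq_iff_eq_mul.2 (Subtype.ext e2)⟩

/-- The two views of the centraliser. -/
def centEquiv : ↥(Subgroup.centralizer ({tG} : Set data.grp)) ≃* ↥centP where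
  toFun z := ⟨z.1.1, mem_centP.2 ⟨z.1.2, congrArg Subtype.val (Subgroup.mem_centralizer_singleton_iff.1 z.2)⟩⟩
  invFun z := ⟨⟨z.1, (mem_centP.1 z.2).1⟩,
    Subgroup.mem_centralizer_singleton_iff.2 (Subtype.ext (mem_centP.1 z.2).2)⟩
  left_inv _ := rfl
  right_inv _ := rfl
  map_mul' _ _ := rfl

theorem double_cover_congr {H H' K : Type*} [Group H] [Group H'] [Group K] (f : H ≃* H')
    (h : IsNonsplitDoubleCover H' K) : IsNonsplitDoubleCover H K := by
  obtain ⟨h1, ⟨q⟩, h3⟩ := h
  have hmap : (Subgroup.center H).map f.toMonoidHom = Subgroup.center H' := Subgroup.ext fun y => by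
    rw [Subgroup.mem_map_equiv, Subgroup.mem_center_iff, Subgroup.mem_center_iff]
    exact ⟨fun h g => by simpa using congrArg f (h (f.symm g)), fun h g => f.injective (by simpa using h (f g))⟩
  refine ⟨(Nat.card_congr (Subgroup.centerCongr f).toEquiv).trans h1,
    ⟨(QuotientGroup.congr _ _ f hmap).trans q⟩, fun L hL => ?_⟩
  refine h3 (L.map f.toMonoidHom) ?_
  rw [← hmap]
  constructor
  · rintro ⟨⟨_, a, ha, rfl⟩, _, b, hb, rfl⟩ ⟨⟨_, a', ha', rfl⟩, _, b', hb', rfl⟩ e
    have e' : a * b = a' * b' := f.injective (by simpa using e)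
    have := @hL.1 (⟨a, ha⟩, ⟨b, hb⟩) (⟨a', ha'⟩, ⟨b', hb'⟩) e'
    simp only [Prod.mk.injEq, Subtype.mk.injEq] at this
    obtain ⟨rfl, rfl⟩ := this
    rfl
  · intro y
    obtain ⟨⟨⟨a, ha⟩, ⟨b, hb⟩⟩, e⟩ := hL.2 (f.symm y)
    refine ⟨(⟨_, a, ha, rfl⟩, ⟨_, b, hb, rfl⟩), ?_⟩
    show f a * f b = y
    rw [← map_mul]
    dsimp only at e
    rw [e, MulEquiv.apply_symm_apply]

/-- The transported statement. -/
theorem main : (∀ x y : ↥Cfsg.Spor.McL, orderOf x = 2 → orderOf y = 2 → IsConj x y) ∧
    ∃ t : ↥Cfsg.Spor.McL, orderOf t = 2 ∧ IsNonsplitDoubleCover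
      ↥(Subgroup.centralizer ({t} : Set ↥Cfsg.Spor.McL)) ↥(alternatingGroup (Fin 8)) := by
  obtain ⟨e⟩ := exists_equiv
  refine ⟨fun x y hx hy => ?_, e.symm tG, by rw [MulEquiv.orderOf_eq]; exact tG_order, ?_⟩
  · have hx' := isConj_tG (x := e x) (by rw [MulEquiv.orderOf_eq]; exact hx)
    have hy' := isConj_tG (x := e y) (by rw [MulEquiv.orderOf_eq]; exact hy)
    simpa using e.symm.toMonoidHom.map_isConj (hx'.symm.trans hy')
  · refine double_cover_congr (MulEquiv.trans ?_ centEquiv) double_cover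
    exact
      { toFun := fun z => ⟨e z.1, Subgroup.mem_centralizer_singleton_iff.2 (by
          have := congrArg e (Subgroup.mem_centralizer_singleton_iff.1 z.2)
          simpa using this)⟩
        invFun := fun z => ⟨e.symm z.1, Subgroup.mem_centralizer_singleton_iff.2 (by
          have := congrArg e.symm (Subgroup.mem_centralizer_singleton_iff.1 z.2)
          simpa using this)⟩
        left_inv := fun z => Subtype.ext (e.symm_apply_apply z.1)
        right_inv := fun z => Subtype.ext (e.apply_symm_apply z.1)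
        map_mul' := fun a b => Subtype.ext (map_mul e a.1 b.1) }

end Cfsg.Lib.McLModel.Inv
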