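import Cfsg.Agent.McLModel.PtStabChecks
import Cfsg.Agent.McLModel.Model
import Cfsg.Agent.Classical.Orth.LowRankMinusSix
import Cfsg.Agent.S0280

/-!
A point stabiliser of the McLaughlin group is the simple unitary group in dimension four over the field with nine
elements, by comparing actions on 112 points.
-/

set_option autoImplicit false
set_option maxHeartbeats 1000000
set_option maxRecDepth 100000
set_option linter.style.haveILetI false

namespace Cfsg.Lib.McLModel.PtStab

open Cfsg Cfsg.Lib.PermCert Cfsg.Lib.CosetCert Cfsg.Lib.CosetCert.OutCert Cfsg.Lib.Leech Cfsg.Lib.Leech.Stab MulAction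
open scoped commutatorElement

/-- The first point. -/
def pt0 : Fin 275 := ⟨0, by norm_num⟩

/-- One of 112 points among 275. -/
def subP (i : Fin 112) : Fin 275 :=
  ⟨subPt i.val, of_decide_eq_true (List.all_eq_true.1 sub_ok.1 i.val (List.mem_range.2 i.isLt))⟩

theorem subP_inj : Function.Injective subP := by
  intro i j h
  have e : subPt i.val = subPt j.val := congrArg Fin.val h
  by_contra hne
  have key : ∀ a b : Fin 112, b.val < a.val → subPt a.val = subPt b.val → False := fun a b hlt e =>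
    bne_iff_ne.1 (List.all_eq_true.1 (List.all_eq_true.1 sub_ok.2 a.val (List.mem_range.2 a.isLt)) b.val
      (List.mem_range.2 hlt)) e
  rcases lt_trichotomy i.val j.val with h1 | h1 | h1
  · exact key j i h1 e.symm
  · exact hne (Fin.ext h1)
  · exact key i j h1 e

theorem qTab_valid {l : ℕ} (hl : l < 4) : valid 112 (qTabs.getD l (0, 0)) = true := by
  rw [List.getD_eq_getElem _ _ (show l < qTabs.length from hl)]
  exact List.all_eq_true.1 qTabs_valid _ (List.getElem_mem _)

theorem cTab_valid {l : ℕ} (hl : l < cTabs.length) : valid 112 (cTabs.getD l (0, 0)) = true := by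
  rw [List.getD_eq_getElem _ _ hl]
  exact List.all_eq_true.1 cTabs_valid _ (List.getElem_mem _)

/-- The generators on 112 points. -/
def qP (l : ℕ) : Equiv.Perm (Fin 112) := perm 112 (qTabs.getD l (0, 0))

theorem qP_inv : qP 2 = (qP 0)⁻¹ ∧ qP 3 = (qP 1)⁻¹ :=
  ⟨perm_pinv (qTab_valid (l := 0) (by norm_num)), perm_pinv (qTab_valid (l := 1) (by norm_num))⟩

/-- The common image. -/
def gA : Subgroup (Equiv.Perm (Fin 112)) := Subgroup.closure (qP '' Set.Iio 2)

theorem xTab_valid {a : ℕ} (ha : a < 4) : valid 275 (data.xTabs.getD a (0, 0)) = true ∧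
    data.im a = perm 275 (data.xTabs.getD a (0, 0)) :=
  valid_data.act a (lt_of_lt_of_le ha (by show 4 ≤ 10; norm_num))

/-- The generators on 275 points. -/
def hP (l : ℕ) : Equiv.Perm (Fin 275) := wval data.im (genWords.getD l [])

theorem hP_apply {l : ℕ} (hl : l < 2) (x : Fin 275) :
    (hP l x : ℕ) = evalWord ((genWords.getD l []).map fun a => data.xTabs.getD a (0, 0)) x.val := by
  have hg : genOK l = true := by interval_cases l; exacts [gens_ok.1, gens_ok.2]
  simp only [genOK, Bool.and_eq_true, List.all_eq_true, Nat.blt, Nat.ble_eq] at hg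
  have hlt : ∀ a ∈ genWords.getD l [], a < 4 := fun a ha => hg.1.1 a ha
  have e : hP l = wperm 275 ((genWords.getD l []).map fun a => data.xTabs.getD a (0, 0)) := by
    rw [hP, wperm, List.map_map]
    exact congrArg List.prod (List.map_congr_left fun a ha => (xTab_valid (hlt a ha)).2)
  rw [e, wperm_apply fun g hg' => by
    obtain ⟨a, ha, rfl⟩ := List.mem_map.1 hg'
    exact (xTab_valid (hlt a ha)).1]

/-- The model on 275 points. -/
abbrev grp275 : Subgroup (Equiv.Perm (Fin 275)) := data.grp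

/-- The stabiliser of the first point. -/
noncomputable def stab0 : Subgroup (Equiv.Perm (Fin 275)) :=
  grp275 ⊓ stabilizer (Equiv.Perm (Fin 275)) pt0

theorem hP_mem {l : ℕ} (hl : l < 2) : hP l ∈ stab0 := by
  have hg : genOK l = true := by interval_cases l; exacts [gens_ok.1, gens_ok.2]
  simp only [genOK, Bool.and_eq_true, List.all_eq_true, Nat.blt, Nat.ble_eq, beq_iff_eq] at hg
  refine ⟨?_, ?_⟩
  · refine Subgroup.list_prod_mem _ fun z hz => ?_
    obtain ⟨a, ha, rfl⟩ := List.mem_map.1 hz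
    exact Subgroup.subset_closure ⟨a, hg.1.1 a ha, rfl⟩
  · show hP l pt0 = pt0
    exact Fin.ext ((hP_apply hl pt0).trans hg.1.2)

theorem hP_sub {l : ℕ} (hl : l < 2) (i : Fin 112) : hP l (subP i) = subP (qP l i) := by
  have hg : genOK l = true := by interval_cases l; exacts [gens_ok.1, gens_ok.2]
  simp only [genOK, Bool.and_eq_true, List.all_eq_true, beq_iff_eq, List.mem_range] at hg
  refine Fin.ext ((hP_apply hl _).trans ((hg.2 i.val i.isLt).trans ?_))
  show _ = subPt (qP l i).val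
  rw [qP, perm_apply (qTab_valid (by omega))]

local instance finiteCo0Inst : Finite Co0 := finite_co0

theorem card_stab0 : Nat.card stab0 = 3265920 := by
  obtain ⟨hgrp, hcard⟩ := grp_eq
  letI : MulAction grp275 (Fin 275) := MulAction.compHom (Fin 275) grp275.subtype
  have htr : MulAction.orbit grp275 pt0 = Set.univ := by
    refine Set.eq_univ_of_forall fun j => ?_
    obtain ⟨-, ht⟩ := mclaughlin bD bP vD_ok.2.1 (pairVec_norm (by decide) (Or.inl rfl)) (by decide +kernel)
      (S := pts275) (fun x => Iff.rfl)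
    obtain ⟨g, h1, h2, h3⟩ := ht (McLModel.vec pt0) (vec_mem _) (McLModel.vec j) (vec_mem _)
    let g' : mclGrp := ⟨g, h1, h2⟩
    refine ⟨⟨phi g', hgrp.ge ⟨g', rfl⟩⟩, vec_inj ?_⟩
    show McLModel.vec (phi g' pt0) = _
    exact (phi_vec g' pt0).trans h3
  let f : MulAction.stabilizer grp275 pt0 ≃ stab0 :=
    { toFun := fun g => ⟨g.1.1, g.1.2, g.2⟩
      invFun := fun g => ⟨⟨g.1, g.2.1⟩, g.2.2⟩
      left_inv := fun _ => rfl
      right_inv := fun _ => rfl }
  have h := Nat.card_congr (MulAction.orbitProdStabilizerEquivGroup grp275 pt0)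
  rw [Nat.card_prod, Nat.card_coe_set_eq, htr, Set.ncard_univ, Nat.card_fin, Nat.card_congr f, show Nat.card grp275 = 898128000 from hcard] at h
  exact Nat.eq_of_mul_eq_mul_left (show 0 < 275 by norm_num) (h.trans (show (898128000 : ℕ) = 275 * 3265920 by norm_num))

/-- The group of the two generators. -/
def gH : Subgroup (Equiv.Perm (Fin 275)) := Subgroup.closure (hP '' Set.Iio 2)

theorem gH_le : gH ≤ stab0 := (Subgroup.closure_le _).2 (by
  rintro _ ⟨l, hl, rfl⟩
  exact hP_mem hl)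

/-- Permutations of 275 points preserving the 112 points. -/
def restH : Subgroup (Equiv.Perm (Fin 275)) where
  carrier := {p | ∃ q : Equiv.Perm (Fin 112), ∀ i, p (subP i) = subP (q i)}
  one_mem' := ⟨1, fun _ => rfl⟩
  mul_mem' := by
    rintro g h ⟨q, hq⟩ ⟨r, hr⟩
    exact ⟨q * r, fun x => by rw [Equiv.Perm.mul_apply, hr, hq, Equiv.Perm.mul_apply]⟩
  inv_mem' := by
    rintro g ⟨q, hq⟩
    refine ⟨q⁻¹, fun x => g.injective ?_⟩
    rw [hq, Equiv.Perm.coe_inv, Equiv.Perm.coe_inv, Equiv.apply_symm_apply, Equiv.apply_symm_apply]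

theorem gH_rest : gH ≤ restH := (Subgroup.closure_le _).2 (by
  rintro _ ⟨l, hl, rfl⟩
  exact ⟨qP l, hP_sub hl⟩)

/-- The action on 112 points. -/
noncomputable def rho : gH →* Equiv.Perm (Fin 112) :=
  MonoidHom.mk' (fun g => (gH_rest g.2).choose) fun g h => Equiv.ext fun x => subP_inj (by
    rw [← (gH_rest (g * h).2).choose_spec x, Subgroup.coe_mul, Equiv.Perm.mul_apply,
      (gH_rest h.2).choose_spec x, (gH_rest g.2).choose_spec, Equiv.Perm.mul_apply])

theorem rho_gen {l : ℕ} (hl : l < 2) : rho ⟨hP l, Subgroup.subset_closure ⟨l, hl, rfl⟩⟩ = qP l :=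
  Equiv.ext fun x => subP_inj (((gH_rest (Subgroup.subset_closure ⟨l, hl, rfl⟩)).choose_spec x).symm.trans (hP_sub hl x))

theorem rho_range : rho.range = gA := by
  refine le_antisymm ?_ ((Subgroup.closure_le _).2 ?_)
  · rintro _ ⟨⟨g, hg⟩, rfl⟩
    induction hg using Subgroup.closure_induction with
    | mem x hx =>
      obtain ⟨l, hl, rfl⟩ := hx
      rw [rho_gen hl]
      exact Subgroup.subset_closure ⟨l, hl, rfl⟩
    | one =>
      rw [show (⟨1, _⟩ : gH) = 1 from rfl, map_one]
      exact one_mem _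
    | mul x y hx hy ihx ihy =>
      rw [show (⟨x * y, _⟩ : gH) = ⟨x, hx⟩ * ⟨y, hy⟩ from rfl, map_mul]
      exact mul_mem ihx ihy
    | inv x hx ih =>
      rw [show (⟨x⁻¹, _⟩ : gH) = ⟨x, hx⟩⁻¹ from rfl, map_inv]
      exact inv_mem ih
  · rintro _ ⟨l, hl, rfl⟩
    exact ⟨_, rho_gen hl⟩

/-! ### The matrices -/

/-- The quadratic form. -/
abbrev qf : (I6 → ZMod 3) → ZMod 3 := Cfsg.quadFormMinus 2 (ZMod 3) 0 1

theorem vecOf_eta (v : I6 → ZMod 3) :
    vecOf (v (.inl (.inl 0))) (v (.inl (.inl 1))) (v (.inl (.inr 0))) (v (.inl (.inr 1))) (v (.inr 0)) (v (.inr 1)) = v := by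
  funext r
  rcases r with (i | i) | i <;> fin_cases i <;> rfl

/-- A generator as an invertible matrix. -/
def gl (k : Fin 2) : Matrix.GeneralLinearGroup I6 (ZMod 3) where
  val := mat k.val
  inv := mat (k.val + 2)
  val_inv := by fin_cases k <;> [exact mat_inv.1; exact mat_inv.2.2.1]
  inv_val := by fin_cases k <;> [exact mat_inv.2.1; exact mat_inv.2.2.2]

theorem gl_mem (k : Fin 2) : gl k ∈ Cfsg.isometryGroup (ZMod 3) qf := fun u _ => by
  show qf ((mat k.val).mulVec u) = qf u
  rw [← vecOf_eta u]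
  exact mat_isometry _ _ _ _ _ _ k

/-- A generator in the isometry group. -/
def gamma (k : Fin 2) : Cfsg.isometryGroup (ZMod 3) qf := ⟨gl k, gl_mem k⟩

/-- The matrix of an isometry. -/
abbrev mt (g : Cfsg.isometryGroup (ZMod 3) qf) : Matrix I6 I6 (ZMod 3) :=
  ((g : Matrix.GeneralLinearGroup I6 (ZMod 3)) : Matrix I6 I6 (ZMod 3))

theorem mt_mul (g h : Cfsg.isometryGroup (ZMod 3) qf) : mt (g * h) = mt g * mt h := rfl

theorem z3_cases : ∀ t : ZMod 3, t ≠ 0 → t = 1 ∨ t = 2 := by decide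

theorem z3_sq : ∀ t : ZMod 3, t ≠ 0 → t * t = 1 := by decide

theorem z3_two : ∀ y : ZMod 3, 2 * y + y = 0 := by decide

theorem lines_inj {a b : Fin 112} {t : ZMod 3} (h : lvec a = t • lvec b) (ht : t ≠ 0) : a = b := by
  by_contra hne
  have key : ∀ a b : Fin 112, b.val < a.val → ∀ t : ZMod 3, t ≠ 0 → lvec a = t • lvec b → False := by
    intro a b hlt t ht h
    have h1 := List.all_eq_true.1 (List.all_eq_true.1 lines_distinct a.val (List.mem_range.2 a.isLt)) b.val
      (List.mem_range.2 hlt)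
    simp only [Bool.and_eq_true, List.any_eq_true, List.mem_range, bne_iff_ne] at h1
    obtain ⟨⟨r, hr, h1⟩, r', hr', h2⟩ := h1
    have hsurj : ∀ r < 6, ∃ c : I6, idx c = r := by decide
    obtain rfl | rfl := z3_cases t ht
    · obtain ⟨c, rfl⟩ := hsurj r hr
      have := congrFun h c
      simp only [lvec, one_smul, ZMod.natCast_eq_natCast_iff'] at this
      exact h1 (by simpa [digit, Nat.mod_mod] using this)
    · obtain ⟨c, rfl⟩ := hsurj r' hr'
      have e : lvec a c + lvec b c = 0 := by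
        rw [congrFun h c, Pi.smul_apply, smul_eq_mul]
        exact z3_two _
      rw [lvec, lvec, ← Nat.cast_add, ZMod.natCast_eq_zero_iff] at e
      exact h2 (Nat.mod_eq_zero_of_dvd e)
  rcases lt_trichotomy a.val b.val with h1 | h1 | h1
  · refine key b a h1 t ht ?_
    have ht2 : t * t = 1 := z3_sq t ht
    rw [h, smul_smul, ht2, one_smul]
  · exact hne (Fin.ext h1)
  · exact key a b h1 t ht h

/-- Isometries permuting the lines. -/
def restK : Subgroup (Cfsg.isometryGroup (ZMod 3) qf) where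
  carrier := {m | ∃ q : Equiv.Perm (Fin 112), ∀ i, ∃ s : ZMod 3, s ≠ 0 ∧ (mt m).mulVec (lvec i) = s • lvec (q i)}
  one_mem' := ⟨1, fun i => ⟨1, one_ne_zero, by
    show (1 : Matrix I6 I6 (ZMod 3)).mulVec (lvec i) = _
    rw [Matrix.one_mulVec, one_smul]
    rfl⟩⟩
  mul_mem' := by
    rintro g h ⟨q, hq⟩ ⟨r, hr⟩
    refine ⟨q * r, fun i => ?_⟩
    obtain ⟨s, hs, e⟩ := hr i
    obtain ⟨t, ht, e'⟩ := hq (r i)
    refine ⟨s * t, mul_ne_zero hs ht, ?_⟩
    rw [mt_mul, ← Matrix.mulVec_mulVec, e, Matrix.mulVec_smul, e', smul_smul]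
    rfl
  inv_mem' := by
    rintro g ⟨q, hq⟩
    refine ⟨q⁻¹, fun i => ?_⟩
    obtain ⟨s, hs, e⟩ := hq (q⁻¹ i)
    rw [show q (q⁻¹ i) = i from q.apply_symm_apply i] at e
    refine ⟨s⁻¹, inv_ne_zero hs, ?_⟩
    have e' := congrArg (fun v => (mt g⁻¹).mulVec v) e
    simp only [Matrix.mulVec_mulVec, ← mt_mul, inv_mul_cancel] at e'
    rw [show mt (1 : Cfsg.isometryGroup (ZMod 3) qf) = 1 from rfl, Matrix.one_mulVec, Matrix.mulVec_smul] at e'
    rw [e', smul_smul, inv_mul_cancel₀ hs, one_smul]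

/-- The group of the two matrices. -/
def gK : Subgroup (Cfsg.isometryGroup (ZMod 3) qf) := Subgroup.closure (Set.range gamma)

theorem mat_vec (k : Fin 2) (i : Fin 112) :
    (mt (gamma k)).mulVec (lvec i) = ((scal k.val i.val : ℕ) : ZMod 3) • lvec (qP k.val i) ∧
      ((scal k.val i.val : ℕ) : ZMod 3) ≠ 0 := by
  have h : actOK k.val = true := by fin_cases k; exacts [act_ok.1, act_ok.2]
  simp only [actOK, List.all_eq_true, Bool.and_eq_true, List.mem_range, decide_eq_true_eq, beq_iff_eq] at h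
  obtain ⟨hs, h⟩ := h i.val i.isLt
  refine ⟨funext fun r => ?_, fun e => hs (by rwa [ZMod.natCast_eq_zero_iff, Nat.dvd_iff_mod_eq_zero] at e)⟩
  show (mat k.val).mulVec (lvec i) r = _
  have e := congrArg (fun n : ℕ => (n : ZMod 3)) (h (idx r) (by rcases r with (j | j) | j <;> simp [idx] <;> omega))
  simp only [ZMod.natCast_mod, Nat.cast_mul] at e
  rw [Pi.smul_apply, smul_eq_mul]
  show _ = ((scal k.val i.val : ℕ) : ZMod 3) * ((digit (perm 112 (qTabs.getD k.val (0, 0)) i).val (idx r) : ℕ) : ZMod 3)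
  rw [perm_apply (qTab_valid (by omega))]
  refine Eq.trans ?_ e
  simp [Matrix.mulVec, dotProduct, mat, lvec, Fintype.sum_sum_type, Fin.sum_univ_two, idx, List.range, List.range.loop]
  ring

theorem gK_rest : gK ≤ restK := (Subgroup.closure_le _).2 (by
  rintro _ ⟨k, rfl⟩
  exact ⟨qP k.val, fun i => ⟨_, (mat_vec k i).2, (mat_vec k i).1⟩⟩)

theorem perm_unique {m : Cfsg.isometryGroup (ZMod 3) qf} {q r : Equiv.Perm (Fin 112)}
    (hq : ∀ i, ∃ s : ZMod 3, s ≠ 0 ∧ (mt m).mulVec (lvec i) = s • lvec (q i))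
    (hr : ∀ i, ∃ s : ZMod 3, s ≠ 0 ∧ (mt m).mulVec (lvec i) = s • lvec (r i)) : q = r := by
  refine Equiv.ext fun i => ?_
  obtain ⟨s, hs, e⟩ := hq i
  obtain ⟨t, ht, e'⟩ := hr i
  refine lines_inj (t := s⁻¹ * t) ?_ (mul_ne_zero (inv_ne_zero hs) ht)
  rw [← smul_smul, ← e', e, smul_smul, inv_mul_cancel₀ hs, one_smul]

/-- The action on the lines. -/
noncomputable def sigma : gK →* Equiv.Perm (Fin 112) :=
  MonoidHom.mk' (fun g => (gK_rest g.2).choose) fun g h => by
    refine perm_unique (gK_rest (g * h).2).choose_spec fun i => ?_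
    obtain ⟨s, hs, e⟩ := (gK_rest h.2).choose_spec i
    obtain ⟨t, ht, e'⟩ := (gK_rest g.2).choose_spec ((gK_rest h.2).choose i)
    refine ⟨s * t, mul_ne_zero hs ht, ?_⟩
    rw [Subgroup.coe_mul, mt_mul, ← Matrix.mulVec_mulVec, e, Matrix.mulVec_smul, e', smul_smul]
    rfl

theorem sigma_spec (g : gK) (i : Fin 112) :
    ∃ s : ZMod 3, s ≠ 0 ∧ (mt g.1).mulVec (lvec i) = s • lvec (sigma g i) := (gK_rest g.2).choose_spec i

/-- A generator in the matrix group. -/
def gammaK (k : Fin 2) : gK := ⟨gamma k, Subgroup.subset_closure ⟨k, rfl⟩⟩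

theorem sigma_gen (k : Fin 2) : sigma (gammaK k) = qP k.val :=
  perm_unique (sigma_spec _) fun i => ⟨_, (mat_vec k i).2, (mat_vec k i).1⟩

theorem sigma_range_le : sigma.range ≤ gA := by
  rintro _ ⟨⟨g, hg⟩, rfl⟩
  induction hg using Subgroup.closure_induction with
  | mem x hx =>
    obtain ⟨k, rfl⟩ := hx
    exact (sigma_gen k).symm ▸ Subgroup.subset_closure ⟨k.val, k.isLt, rfl⟩
  | one =>
    rw [show (⟨1, _⟩ : gK) = 1 from rfl, map_one]
    exact one_mem _
  | mul x y hx hy ihx ihy =>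
    rw [show (⟨x * y, _⟩ : gK) = ⟨x, hx⟩ * ⟨y, hy⟩ from rfl, map_mul]
    exact mul_mem ihx ihy
  | inv x hx ih =>
    rw [show (⟨x⁻¹, _⟩ : gK) = ⟨x, hx⟩⁻¹ from rfl, map_inv]
    exact inv_mem ih

/-- The letters in the matrix group. -/
def eK (l : ℕ) : gK :=
  if l = 0 then gammaK 0 else if l = 1 then gammaK 1 else if l = 2 then (gammaK 0)⁻¹ else (gammaK 1)⁻¹

theorem sigma_eK {l : ℕ} (hl : l < 4) : sigma (eK l) = qP l := by
  interval_cases l
  · exact sigma_gen 0
  · exact sigma_gen 1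
  · show sigma (gammaK 0)⁻¹ = _
    rw [map_inv, sigma_gen, qP_inv.1]
    rfl
  · show sigma (gammaK 1)⁻¹ = _
    rw [map_inv, sigma_gen, qP_inv.2]
    rfl

/-- The derived matrix group. -/
abbrev DK : Subgroup gK := commutator gK

/-- A commutator letter. -/
def commK (j : ℕ) : DK :=
  ⟨⁅wval eK (cWords.getD (j % 4) ([], [])).1, wval eK (cWords.getD (j % 4) ([], [])).2⁆, by
    rw [DK, commutator_def]
    exact Subgroup.commutator_mem_commutator (Subgroup.mem_top _) (Subgroup.mem_top _)⟩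

/-- The eight commutator letters. -/
def cK (j : ℕ) : DK := if j < 4 then commK j else (commK j)⁻¹

/-- The action of the derived matrix group. -/
noncomputable def sigmaD : DK →* Equiv.Perm (Fin 112) := sigma.comp DK.subtype

theorem sigma_comm {j : ℕ} (hj : j < 4) : sigmaD (commK j) = perm 112 (cTabs.getD j (0, 0)) := by
  have h := List.all_eq_true.1 comms_ok j (List.mem_range.2 hj)
  simp only [commOK, Bool.and_eq_true, List.all_eq_true, decide_eq_true_eq, List.mem_range, beq_iff_eq] at h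
  obtain ⟨⟨ha, hb⟩, he⟩ := h
  set a := (cWords.getD j ([], [])).1
  set b := (cWords.getD j ([], [])).2
  have hw : ∀ w : List ℕ, (∀ l ∈ w, l < 4) → sigma (wval eK w) = wperm 112 (w.map fun l => qTabs.getD l (0, 0)) := by
    intro w hw
    rw [map_wval, wval, wperm, List.map_map]
    exact congrArg List.prod (List.map_congr_left fun l hl => sigma_eK (hw l hl))
  show sigma ⁅wval eK (cWords.getD (j % 4) ([], [])).1, wval eK (cWords.getD (j % 4) ([], [])).2⁆ = _
  rw [Nat.mod_eq_of_lt hj, map_commutatorElement, hw _ ha, hw _ hb, commutatorElement_def, mul_inv_eq_iff_eq_mul,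
    mul_inv_eq_iff_eq_mul, mul_assoc]
  have hc : j < cTabs.length := by rw [chain_size.2]; omega
  have hv : ∀ w : List ℕ, (∀ l ∈ w, l < 4) → ∀ g ∈ w.map (fun l => qTabs.getD l (0, 0)), valid 112 g = true :=
    fun w hw g hg => by
      obtain ⟨l, hl, rfl⟩ := List.mem_map.1 hg
      exact qTab_valid (hw l hl)
  rw [show perm 112 (cTabs.getD j (0, 0)) * (wperm 112 (b.map fun l => qTabs.getD l (0, 0)) *
      wperm 112 (a.map fun l => qTabs.getD l (0, 0))) =
    wperm 112 (cTabs.getD j (0, 0) :: (b ++ a).map fun l => qTabs.getD l (0, 0)) by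
      simp [wperm, List.prod_append],
    show wperm 112 (a.map fun l => qTabs.getD l (0, 0)) * wperm 112 (b.map fun l => qTabs.getD l (0, 0)) =
      wperm 112 ((a ++ b).map fun l => qTabs.getD l (0, 0)) by simp [wperm, List.prod_append]]
  refine Equiv.ext fun x => Fin.ext ?_
  rw [wperm_apply, wperm_apply]
  · exact he x.val x.isLt
  · intro g hg
    rcases List.mem_cons.1 hg with rfl | hg
    · exact cTab_valid hc
    · exact hv _ (fun l hl => (List.mem_append.1 hl).elim (hb l) (ha l)) g hg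
  · exact hv _ fun l hl => (List.mem_append.1 hl).elim (ha l) (hb l)

theorem actD : ∀ l < cTabs.length, valid 112 (cTabs.getD l (0, 0)) = true ∧
    sigmaD (cK l) = perm 112 (cTabs.getD l (0, 0)) := by
  intro l hl
  refine ⟨cTab_valid hl, ?_⟩
  have hl' : l < 8 := chain_size.2 ▸ hl
  by_cases h : l < 4
  · rw [cK, if_pos h, sigma_comm h]
  · obtain ⟨j, rfl⟩ : ∃ j, l = j + 4 := ⟨l - 4, by omega⟩
    have hj : j < 4 := by omega
    have e : commK (j + 4) = commK j := by
      apply Subtype.ext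
      show ⁅_, _⁆ = ⁅_, _⁆
      rw [Nat.add_mod_right]
    rw [cK, if_neg h, e, map_inv, sigma_comm hj, ← perm_pinv (cTab_valid (by rw [chain_size.2]; omega))]
    congr 1
    interval_cases j <;> rfl

theorem range_facts : sigmaD.range = gA ∧ Nat.card gA = 3265920 ∧ Function.Injective rho ∧ gH = stab0 := by
  have hle : sigmaD.range ≤ gA := le_trans (by rintro _ ⟨g, rfl⟩; exact ⟨g.1, rfl⟩) sigma_range_le
  have hlo : 3265920 ≤ Nat.card sigmaD.range := chain_size.1 ▸
    chain_bound (fun l => sigmaD (cK l)) (MonoidHom.id _) cTabs actD chain sigmaD.range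
      (chain_size.2.symm ▸ chain_ok) inferInstance (fun _ _ w _ => ⟨wval cK w, map_wval cK sigmaD w⟩)
  have h1 : Nat.card gA ≤ Nat.card gH := by
    rw [← rho_range]
    exact Nat.card_le_card_of_surjective _ rho.rangeRestrict_surjective
  have h2 : Nat.card gH ≤ 3265920 := card_stab0 ▸ Subgroup.card_le_of_le gH_le
  have h3 := Subgroup.card_le_of_le hle
  have hA : Nat.card gA = 3265920 := le_antisymm (h1.trans h2) (hlo.trans h3)
  refine ⟨Subgroup.eq_of_le_of_card_ge hle (hA.le.trans hlo), hA, ?_, Subgroup.eq_of_le_of_card_ge gH_le ?_⟩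
  · have hb : Function.Bijective rho.rangeRestrict :=
      (Nat.bijective_iff_surjective_and_card _).2 ⟨rho.rangeRestrict_surjective, by rw [rho_range, hA]; omega⟩
    exact fun a b h => hb.1 (Subtype.ext h)
  · rw [card_stab0]; omega

/-- The stabiliser is the image. -/
theorem stab0_equiv : Nonempty (stab0 ≃* gA) := by
  obtain ⟨-, -, hinj, hH⟩ := range_facts
  exact ⟨((MulEquiv.subgroupCongr hH.symm).trans (MonoidHom.ofInjective hinj)).trans (MulEquiv.subgroupCongr rho_range)⟩

theorem scalar_of_trivial {g : gK} (h : sigma g = 1) : ∃ s : ZMod 3, mt g.1 = s • (1 : Matrix I6 I6 (ZMod 3)) := by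
  have hv : ∀ i, ∃ b : Bool, (mt g.1).mulVec (lvec i) = bsgn b • lvec i := fun i => by
    obtain ⟨s, hs, e⟩ := sigma_spec g i
    rw [h] at e
    obtain rfl | rfl := z3_cases s hs
    · exact ⟨false, e⟩
    · exact ⟨true, e⟩
  choose b hb using hv
  set v : Fin 6 → Bool := fun j => b (basisPt j) with hvdef
  have hv6 : ![v 0, v 1, v 2, v 3, v 4, v 5] = v := by funext j; fin_cases j <;> rfl
  obtain ⟨e0, e1, e2, e3, e4, e5⟩ := full_rigid (v 0) (v 1) (v 2) (v 3) (v 4) (v 5) (b fullPt) (fun r => by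
    rw [hv6]
    have e := congrFun (hb fullPt) r
    rw [show lvec fullPt = ∑ j : Fin 6, fullC j • lvec (basisPt j) from funext fun r => by
      rw [Finset.sum_apply]; exact (full_expand r).symm] at e
    simp only [Matrix.mulVec_sum, Matrix.mulVec_smul, hb, Finset.sum_apply, Pi.smul_apply, smul_eq_mul,
      full_expand] at e
    rw [← e]
    exact Finset.sum_congr rfl fun j _ => by simp only [hvdef]; ring)
  have hall : ∀ j, v j = b fullPt := by intro j; fin_cases j <;> assumption
  refine ⟨bsgn (b fullPt), Matrix.ext_of_mulVec_single fun c => ?_⟩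
  have hu : (Pi.single c 1 : I6 → ZMod 3) = ∑ j : Fin 6, unitCoord c j • lvec (basisPt j) := funext fun r => by
    rw [Finset.sum_apply, Pi.single_apply]; exact (unit_expand c r).symm
  rw [hu]
  simp only [Matrix.mulVec_sum, Matrix.mulVec_smul, hb, Matrix.smul_mulVec, Matrix.one_mulVec]
  exact Finset.sum_congr rfl fun j _ => by rw [show b (basisPt j) = b fullPt from hall j]

theorem gA_center {c : Equiv.Perm (Fin 112)} (hcomm : ∀ a ∈ gA, Commute c a) : c = 1 := by
  obtain ⟨hfix, hlev, hb⟩ := fixes_only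
  simp only [fixesOnly, List.all_eq_true, List.mem_range, Bool.or_eq_true, beq_iff_eq, List.any_eq_true, bne_iff_ne] at hfix
  simp only [List.all_eq_true, Bool.and_eq_true, beq_iff_eq, decide_eq_true_eq] at hlev
  have hreach := reach_ok
  simp only [List.all_eq_true, List.mem_range, Bool.or_eq_true, List.any_eq_true, Bool.and_eq_true, beq_iff_eq,
    decide_eq_true_eq] at hreach
  set b0 : Fin 112 := ⟨lev0.b, hb⟩
  have hmem : ∀ w, wval (fun l => sigmaD (cK l)) w ∈ gA := fun w =>
    range_facts.1 ▸ ⟨wval cK w, map_wval cK sigmaD w⟩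
  have hev : ∀ w, (∀ l ∈ w, l < 8) → ∀ x : Fin 112,
      (((wval (fun l => sigmaD (cK l)) w)⁻¹ x : Fin 112) : ℕ) = evalW cTabs w x := fun w hw x =>
    evalW_apply (fun l => sigmaD (cK l)) (MonoidHom.id _) cTabs actD w (fun l hl => chain_size.2.symm ▸ hw l hl) x
  have hswap : ∀ w x, c ((wval (fun l => sigmaD (cK l)) w)⁻¹ x) = (wval (fun l => sigmaD (cK l)) w)⁻¹ (c x) :=
    fun w x => congrArg (fun p : Equiv.Perm (Fin 112) => p x) (hcomm _ (inv_mem (hmem w))).eq
  have h0 : c b0 = b0 := by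
    by_contra hne
    rcases hfix (c b0).val (c b0).isLt with h | ⟨w, hw, hm⟩
    · exact hne (Fin.ext h)
    · refine hm ?_
      have e : (wval (fun l => sigmaD (cK l)) w)⁻¹ b0 = b0 :=
        Fin.ext ((hev w (hlev w hw).2 b0).trans (hlev w hw).1)
      rw [← hev w (hlev w hw).2, ← hswap, e]
  refine Equiv.ext fun x => ?_
  rcases hreach x.val x.isLt with h | ⟨w, -, hw, hl⟩
  · rw [show x = b0 from Fin.ext h, h0]; rfl
  · have e : (wval (fun l => sigmaD (cK l)) w)⁻¹ b0 = x := Fin.ext ((hev w hl b0).trans hw)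
    rw [← e, hswap, h0]
    rfl

local instance factPrimeThree : Fact (Nat.Prime 3) := ⟨Nat.prime_three⟩

theorem anisotropic : ∀ z₁ z₂ : ZMod 3, z₁ ^ 2 + 0 * z₁ * z₂ + 1 * z₂ ^ 2 = 0 → z₁ = 0 ∧ z₂ = 0 := by decide

/-- The inclusion of the derived matrix group in the derived isometry group. -/
def inclO : DK →* Cfsg.Omega (ZMod 3) qf :=
  (gK.subtype.comp DK.subtype).codRestrict _ fun d => by
    have h : (commutator gK).map gK.subtype ≤ commutator (Cfsg.isometryGroup (ZMod 3) qf) := by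
      rw [commutator_def, Subgroup.map_commutator, commutator_def]
      exact Subgroup.commutator_mono le_top le_top
    exact h ⟨d.1, d.2, rfl⟩

theorem gA_equiv (F : Type) [Field F] [Fintype F] (hF : Fintype.card F = 9) :
    Nonempty (gA ≃* Cfsg.PSU 4 F 3) := by
  obtain ⟨hR, hA, -, -⟩ := range_facts
  obtain ⟨iso⟩ := Cfsg.Lib.Classical.LowRank.minus_six_iso (F := ZMod 3) (K := F) (ZMod.card 3)
    (show Fintype.card F = 3 ^ 2 by rw [hF]; norm_num) 0 1 anisotropic
  set π : DK →* Cfsg.POmega (ZMod 3) qf := (QuotientGroup.mk' _).comp inclO with hπ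
  have hker : π.ker = sigmaD.ker := by
    ext d
    simp only [hπ, MonoidHom.mem_ker, MonoidHom.comp_apply, QuotientGroup.mk'_apply, QuotientGroup.eq_one_iff]
    constructor
    · intro hd
      refine gA_center fun a ha => ?_
      obtain ⟨d', rfl⟩ := (hR.symm ▸ ha : a ∈ sigmaD.range)
      have e : d * d' = d' * d := by
        have e := Subgroup.mem_center_iff.1 hd (inclO d')
        rw [← map_mul, ← map_mul] at e
        have e' : gK.subtype (DK.subtype (d * d')) = gK.subtype (DK.subtype (d' * d)) :=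
          congrArg (fun z : ↥(Cfsg.Omega (ZMod 3) qf) => z.1) e.symm
        exact Subtype.ext (Subtype.ext e')
      show _ * _ = _ * _
      rw [← map_mul, ← map_mul, e]
    · intro hd
      obtain ⟨s, hs⟩ := scalar_of_trivial (g := d.1) hd
      refine Subgroup.mem_center_iff.2 fun y => Subtype.ext (Subtype.ext (Units.ext ?_))
      show mt y.1 * mt d.1.1 = mt d.1.1 * mt y.1
      rw [hs, Matrix.mul_smul, Matrix.smul_mul, mul_one, one_mul]
  haveI : Finite (Cfsg.PSU 4 F 3) := inferInstance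
  haveI : Finite (Cfsg.POmega (ZMod 3) qf) := Finite.of_equiv _ iso.symm.toEquiv
  have hPO : Nat.card (Cfsg.POmega (ZMod 3) qf) = 3265920 := by
    rw [Nat.card_congr iso.toEquiv]
    have h := Cfsg.Agent.S0280.result (F := F) (q := 3) (by rw [hF]; norm_num) 4 (by norm_num)
    simp only [Finset.prod_range_succ, Finset.prod_range_zero] at h
    norm_num [Nat.even_iff] at h
    exact Nat.eq_of_mul_eq_mul_left (show 0 < 16 by norm_num) (by linarith)
  let e : sigmaD.range ≃* π.range := ((QuotientGroup.quotientKerEquivRange sigmaD).symm.trans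
    (QuotientGroup.quotientMulEquivOfEq hker.symm)).trans (QuotientGroup.quotientKerEquivRange π)
  have htop : π.range = ⊤ := Subgroup.eq_top_of_card_eq _ (by rw [← Nat.card_congr e.toEquiv, hR, hA, hPO])
  exact ⟨(((MulEquiv.subgroupCongr hR.symm).trans e).trans ((MulEquiv.subgroupCongr htop).trans Subgroup.topEquiv)).trans iso⟩

/-- The joint stabiliser of a configuration is the unitary group. -/
theorem point_stabiliser (u v x : leechLattice) (hu : Cfsg.sqNorm (u : GolayPt → ℤ) = 48)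
    (hv : Cfsg.sqNorm (v : GolayPt → ℤ) = 32) (huv : dotInt (u : GolayPt → ℤ) v = 24)
    (hxn : Cfsg.sqNorm (x : GolayPt → ℤ) = 32) (hxu : dotInt (u : GolayPt → ℤ) x = 24)
    (hxv : dotInt (v : GolayPt → ℤ) x = 16) (F : Type) [Field F] [Fintype F] (hF : Fintype.card F = 9) :
    Nonempty (↥(stabilizer Co0 u ⊓ stabilizer Co0 v ⊓ stabilizer Co0 x) ≃* Cfsg.PSU 4 F 3) := by
  obtain ⟨g₀, hgu, hgv⟩ := to_DP u v hu hv huv
  have hx0 : g₀ • x ∈ pts275 := by
    refine ⟨(norm_smul' g₀ x).trans hxn, ?_, ?_⟩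
    · rw [show vD = ((g₀ • u : leechLattice) : GolayPt → ℤ) by rw [hgu], dot_smul]; exact hxu
    · rw [← hgv, dot_smul]; exact hxv
  obtain ⟨-, ht⟩ := mclaughlin bD bP vD_ok.2.1 (pairVec_norm (by decide) (Or.inl rfl)) (by decide +kernel)
    (S := pts275) (fun x => Iff.rfl)
  obtain ⟨k, hk1, hk2, hk3⟩ := ht _ hx0 (McLModel.vec pt0) (vec_mem _)
  set c : Co0 := k * g₀
  have h1 : c • u = bD := by rw [mul_smul, hgu, hk1]
  have h2 : c • v = bP := by rw [mul_smul, hgv, hk2]
  have h3 : c • x = McLModel.vec pt0 := by rw [mul_smul, hk3]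
  let T : Subgroup mclGrp := (stabilizer Co0 (McLModel.vec pt0)).comap mclGrp.subtype
  have hconj : ∀ (h : Co0) (z : leechLattice), (c * h * c⁻¹) • (c • z) = c • z ↔ h • z = z := fun h z => by
    rw [← mul_smul, inv_mul_cancel_right, mul_smul, smul_left_cancel_iff]
  let eT : ↥(stabilizer Co0 u ⊓ stabilizer Co0 v ⊓ stabilizer Co0 x) ≃* T :=
    { toFun := fun h => ⟨⟨c * h.1 * c⁻¹, by
          show (_ : Co0) • bD = bD; rw [← h1, hconj]; exact h.2.1.1, by
          show (_ : Co0) • bP = bP; rw [← h2, hconj]; exact h.2.1.2⟩, by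
          show (c * h.1 * c⁻¹) • McLModel.vec pt0 = McLModel.vec pt0
          rw [← h3, hconj]; exact h.2.2⟩
      invFun := fun t => ⟨c⁻¹ * t.1.1 * c, by
          have hcc : c * (c⁻¹ * t.1.1 * c) * c⁻¹ = t.1.1 := by group
          refine ⟨⟨?_, ?_⟩, ?_⟩
          · show (_ : Co0) • u = u; rw [← hconj, hcc, h1]; exact t.1.2.1
          · show (_ : Co0) • v = v; rw [← hconj, hcc, h2]; exact t.1.2.2
          · show (_ : Co0) • x = x; rw [← hconj, hcc, h3]; exact t.2⟩
      left_inv := fun h => Subtype.ext (by show c⁻¹ * (c * h.1 * c⁻¹) * c = h.1; group)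
      right_inv := fun t => Subtype.ext (Subtype.ext (by show c * (c⁻¹ * t.1.1 * c) * c⁻¹ = t.1.1; group))
      map_mul' := fun a b => Subtype.ext (Subtype.ext (by show c * (a.1 * b.1) * c⁻¹ = c * a.1 * c⁻¹ * (c * b.1 * c⁻¹); group)) }
  have hmap : T.map phi = stab0 := by
    ext p
    constructor
    · rintro ⟨g, hg, rfl⟩
      exact ⟨grp_eq.1.ge ⟨g, rfl⟩, vec_inj ((phi_vec g pt0).trans hg)⟩
    · rintro ⟨hp, hp0⟩
      obtain ⟨g, rfl⟩ := (grp_eq.1.le hp : p ∈ phi.range)
      exact ⟨g, (phi_vec g pt0).symm.trans (congrArg McLModel.vec hp0), rfl⟩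
  obtain ⟨e0⟩ := stab0_equiv
  obtain ⟨e1⟩ := gA_equiv F hF
  exact ⟨((eT.trans (T.equivMapOfInjective phi phi_injective)).trans (MulEquiv.subgroupCongr hmap)).trans (e0.trans e1)⟩

end Cfsg.Lib.McLModel.PtStab
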