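import Cfsg.Agent.McLModel.PtStabData
import Cfsg.Agent.McLModel.Data
import Cfsg.Agent.CosetCert.OutCert
import Cfsg.Prelude.Def_Classical

/-!
Computations for a point stabiliser of the McLaughlin group and the six dimensional orthogonal group of minus type.
-/

set_option autoImplicit false
set_option maxRecDepth 100000
set_option Elab.async false

namespace Cfsg.Lib.McLModel.PtStab

open Cfsg.Lib.PermCert Cfsg.Lib.CosetCert

/-- The index among 275 of one of 112 points. -/
def subPt (i : ℕ) : ℕ := ap subBig i

/-- The letters of the generators and their inverses on 112 points. -/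
def qTabs : List PP := [qTab0, qTab1, pinv qTab0, pinv qTab1]

theorem qTabs_valid : qTabs.all (valid 112) = true := by decide +kernel

theorem cTabs_valid : cTabs.all (valid 112) = true := by decide +kernel

theorem sub_ok : ((List.range 112).all fun i => decide (subPt i < 275)) = true ∧
    ((List.range 112).all fun i => (List.range i).all fun j => subPt i != subPt j) = true := by decide +kernel

/-- The generators permute the 112 points as their tables say. -/
def genOK (l : ℕ) : Bool :=
  ((genWords.getD l []).all fun a => Nat.blt a 4) &&
  (evalWord ((genWords.getD l []).map fun a => data.xTabs.getD a (0, 0)) 0 == 0) &&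
    (List.range 112).all fun i =>
      evalWord ((genWords.getD l []).map fun a => data.xTabs.getD a (0, 0)) (subPt i) ==
        subPt (ap (qTabs.getD l (0, 0)).1 i)

theorem gens_ok : genOK 0 = true ∧ genOK 1 = true := by decide +kernel

/-- A commutator agrees with its table. -/
def commOK (j : ℕ) : Bool :=
  let a := (cWords.getD j ([], [])).1
  let b := (cWords.getD j ([], [])).2
  (a.all fun l => decide (l < 4)) && (b.all fun l => decide (l < 4)) &&
  (List.range 112).all fun x =>
    evalWord ((a ++ b).map fun l => qTabs.getD l (0, 0)) x ==
      evalWord (cTabs.getD j (0, 0) :: ((b ++ a).map fun l => qTabs.getD l (0, 0))) x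

theorem comms_ok : ((List.range 4).all commOK) = true := by decide +kernel

theorem chain_ok : chainOK cTabs 112 8 chain = true := by decide +kernel

theorem chain_size : chainSize chain = 3265920 ∧ cTabs.length = 8 := by decide +kernel

/-- Some word of the second level moves every point but the first base point. -/
def fixesOnly : Bool :=
  (List.range 112).all fun x => (x == lev0.b) || lev1.gens.any fun w => evalW cTabs w x != x

theorem fixes_only : fixesOnly = true ∧ (lev1.gens.all fun w => (evalW cTabs w lev0.b == lev0.b) &&
    w.all fun l => decide (l < 8)) = true ∧ lev0.b < 112 := by decide +kernel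

/-- Every point is reached from the first base point. -/
theorem reach_ok : ((List.range 112).all fun x => (x == lev0.b) ||
    lev0.gens.any fun w => (evalW cTabs w lev0.b == x) && w.all fun l => decide (l < 8)) = true := by decide +kernel

/-- The index type of six coordinates. -/
abbrev I6 : Type := (Fin 2 ⊕ Fin 2) ⊕ Fin 2

/-- The number of a coordinate. -/
def idx : I6 → ℕ
  | .inl (.inl i) => i.val
  | .inl (.inr i) => 2 + i.val
  | .inr i => 4 + i.val

/-- A coordinate of the vector of a line. -/
def digit (i r : ℕ) : ℕ := ap codeBig i / 3 ^ r % 3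

/-- The vector of a line. -/
def lvec (i : Fin 112) : I6 → ZMod 3 := fun r => (digit i.val (idx r) : ZMod 3)

/-- A matrix from the table. -/
def mat (k : ℕ) : Matrix I6 I6 (ZMod 3) :=
  Matrix.of fun r c => (((matEntries.getD k []).getD (6 * idx r + idx c) 0 : ℕ) : ZMod 3)

/-- The scalar of a generator at a line. -/
def scal (k i : ℕ) : ℕ := ap (bif k == 0 then sgn0 else sgn1) i

/-- A matrix permutes the lines as the table says. -/
def actOK (k : ℕ) : Bool :=
  (List.range 112).all fun i => decide (scal k i % 3 ≠ 0) && (List.range 6).all fun r =>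
    ((List.range 6).map fun c => (matEntries.getD k []).getD (6 * r + c) 0 * digit i c).sum % 3 ==
      scal k i * digit (ap (qTabs.getD k (0, 0)).1 i) r % 3

theorem act_ok : actOK 0 = true ∧ actOK 1 = true := by decide +kernel

theorem mat_inv : mat 0 * mat 2 = 1 ∧ mat 2 * mat 0 = 1 ∧ mat 1 * mat 3 = 1 ∧ mat 3 * mat 1 = 1 := by
  decide +kernel

/-- A vector from six values. -/
def vecOf (a b c d e f : ZMod 3) : I6 → ZMod 3
  | .inl (.inl i) => bif i == 0 then a else b
  | .inl (.inr i) => bif i == 0 then c else d
  | .inr i => bif i == 0 then e else f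

theorem mat_isometry : ∀ a b c d e f : ZMod 3, ∀ k : Fin 2,
    Cfsg.quadFormMinus 2 (ZMod 3) 0 1 ((mat k.val).mulVec (vecOf a b c d e f)) =
      Cfsg.quadFormMinus 2 (ZMod 3) 0 1 (vecOf a b c d e f) := by decide +kernel

theorem lines_distinct : ((List.range 112).all fun i => (List.range i).all fun j =>
    ((List.range 6).any fun r => digit i r != digit j r) &&
      (List.range 6).any fun r => (digit i r + digit j r) % 3 != 0) = true := by decide +kernel

/-- The line of a basis vector. -/
def basisPt (j : Fin 6) : Fin 112 := Fin.ofNat 112 (basisIdx.getD j.val 0)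

/-- The coefficient of a basis vector in a unit vector. -/
def unitCoord (c : I6) (j : Fin 6) : ZMod 3 := (((coordTab.getD (idx c) []).getD j.val 0 : ℕ) : ZMod 3)

theorem unit_expand : ∀ c r : I6, ∑ j : Fin 6, unitCoord c j * lvec (basisPt j) r = if r = c then 1 else 0 := by
  decide +kernel

/-- The line in general position. -/
def fullPt : Fin 112 := Fin.ofNat 112 fullIdx

/-- The scalar of a Boolean. -/
def bsgn (b : Bool) : ZMod 3 := bif b then 2 else 1

/-- Its coefficients. -/
def fullC (j : Fin 6) : ZMod 3 := ((fullCoord.getD j.val 0 : ℕ) : ZMod 3)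

theorem full_expand : ∀ r : I6, ∑ j : Fin 6, fullC j * lvec (basisPt j) r = lvec fullPt r := by decide +kernel

theorem full_rigid : ∀ a b c d e f g : Bool,
    (∀ r : I6, ∑ j : Fin 6, fullC j * bsgn (![a, b, c, d, e, f] j) * lvec (basisPt j) r = bsgn g * lvec fullPt r) →
      a = g ∧ b = g ∧ c = g ∧ d = g ∧ e = g ∧ f = g := by decide +kernel

end Cfsg.Lib.McLModel.PtStab
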